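import Cfsg.Agent.Lib.Fischer.Disc.OThreeBasic
import Cfsg.Agent.Lib.ThreeTransp.Ortho7

/-!
Reflection groups over three elements: only the form of plus type in dimension eight can be the
group of a fibre of a disconnected class.
-/

set_option autoImplicit false

namespace Cfsg.Agent.Fischer.Disc

open Matrix Module
open Cfsg.Agent.Forms.QuadStd Cfsg.Agent.Forms.Reflections

theorem v3_small_index {G : Type*} [Group G] [Finite G] {H K : Subgroup G} (h : H ≤ K)
    (hi : H.relIndex K ≤ 2) :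
    (Nat.card K).factorization 3 = (Nat.card H).factorization 3 := by
  have h1 := Subgroup.card_mul_index (H.subgroupOf K)
  rw [Nat.card_congr (Subgroup.subgroupOfEquivOfLe h).toEquiv] at h1
  change Nat.card H * H.relIndex K = Nat.card K at h1
  have h0 : H.relIndex K ≠ 0 := Subgroup.index_ne_zero_of_finite
  rw [← h1, Nat.factorization_mul Nat.card_pos.ne' h0, Finsupp.add_apply]
  have h2 : (H.relIndex K).factorization 3 = 0 :=
    Nat.factorization_eq_zero_of_not_dvd fun hd => by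
      have := Nat.le_of_dvd (Nat.pos_of_ne_zero h0) hd
      omega
  omega

/-- Centralizers in a quotient by a central subgroup of order at most two. -/
theorem v3_quot {G : Type*} [Group G] [Finite G] {Z : Subgroup G} [Z.Normal]
    (hZ : Z ≤ Subgroup.center G) (h2 : Nat.card Z ≤ 2) (x : G) :
    (Nat.card ↥(Subgroup.centralizer ({(x : G ⧸ Z)} : Set (G ⧸ Z)))).factorization 3 =
      (Nat.card ↥(Subgroup.centralizer ({x} : Set G))).factorization 3 := by
  set π := QuotientGroup.mk' Z with hπ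
  set P := (Subgroup.centralizer ({(x : G ⧸ Z)} : Set (G ⧸ Z))).comap π with hP
  have hle : Subgroup.centralizer ({x} : Set G) ≤ P := fun y hy =>
    Subgroup.mem_centralizer_singleton_iff.2
      (by rw [hπ]; exact congrArg (QuotientGroup.mk (s := Z)) (Subgroup.mem_centralizer_singleton_iff.1 hy))
  have hmem : ∀ y : P, (y : G) * x * (y : G)⁻¹ * x⁻¹ ∈ Z := fun y => by
    rw [← QuotientGroup.eq_one_iff]
    have h := Subgroup.mem_centralizer_singleton_iff.1 y.2
    simp only [QuotientGroup.mk_mul, QuotientGroup.mk_inv]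
    show π y * π x * (π y)⁻¹ * (π x)⁻¹ = 1
    rw [show π y * π x = π x * π y from h]
    group
  have hidx : (Subgroup.centralizer ({x} : Set G)).relIndex P ≤ 2 := by
    show Nat.card (P ⧸ (Subgroup.centralizer ({x} : Set G)).subgroupOf P) ≤ 2
    refine le_trans (Nat.card_le_card_of_injective
      (fun q => (⟨_, hmem (Quotient.out q)⟩ : Z)) fun q q' he => ?_) h2
    have he' := congrArg Subtype.val he
    simp only [mul_left_inj] at he'
    set a := ((Quotient.out q : P) : G)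
    set b := ((Quotient.out q' : P) : G)
    rw [← q.out_eq, ← q'.out_eq]
    refine QuotientGroup.eq.2 ?_
    rw [Subgroup.mem_subgroupOf, Subgroup.mem_centralizer_singleton_iff]
    show a⁻¹ * b * x = x * (a⁻¹ * b)
    calc a⁻¹ * b * x = a⁻¹ * (b * x * b⁻¹) * b := by group
      _ = a⁻¹ * (a * x * a⁻¹) * b := by rw [he']
      _ = x * (a⁻¹ * b) := by group
  rw [← v3_small_index hle hidx]
  have hcard : Nat.card P =
      Nat.card ↥(Subgroup.centralizer ({(x : G ⧸ Z)} : Set (G ⧸ Z))) * Nat.card Z := by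
    have hb : Z ≤ P := fun z hz => by
      show π z ∈ Subgroup.centralizer ({(x : G ⧸ Z)} : Set (G ⧸ Z))
      rw [show π z = 1 from (QuotientGroup.eq_one_iff z).2 hz]
      exact Subgroup.one_mem _
    have h1 := Subgroup.card_eq_card_quotient_mul_card_subgroup (Z.subgroupOf P)
    rw [Nat.card_congr (Subgroup.subgroupOfEquivOfLe hb).toEquiv] at h1
    rw [h1]
    congr 1
    let f : P →* ↥(Subgroup.centralizer ({(x : G ⧸ Z)} : Set (G ⧸ Z))) :=
      (π.comp P.subtype).codRestrict _ fun y => y.2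
    have hf : Function.Surjective f := fun q => by
      obtain ⟨y, hy⟩ := QuotientGroup.mk'_surjective Z q.1
      exact ⟨⟨y, show π y ∈ _ by rw [hπ, hy]; exact q.2⟩, Subtype.ext hy⟩
    have hk : f.ker = Z.subgroupOf P := by
      ext y
      exact ⟨fun h => (QuotientGroup.eq_one_iff (y : G)).1 (congrArg Subtype.val (MonoidHom.mem_ker.1 h)),
        fun h => MonoidHom.mem_ker.2 (Subtype.ext ((QuotientGroup.eq_one_iff _).2 h))⟩
    exact Nat.card_congr ((QuotientGroup.quotientMulEquivOfEq hk.symm).trans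
      (QuotientGroup.quotientKerEquivOfSurjective f hf)).toEquiv
  rw [hcard, Nat.factorization_mul Nat.card_pos.ne' Nat.card_pos.ne', Finsupp.add_apply]
  have hz0 : (Nat.card Z).factorization 3 = 0 :=
    Nat.factorization_eq_zero_of_not_dvd fun hd => by
      have := Nat.le_of_dvd Nat.card_pos hd
      omega
  omega

theorem v3_cc' {M : Type*} [Group M] [Finite M] (hidx : (commutator M).index = 2) (x : M) :
    (Nat.card ↥(Subgroup.centralizer ({x} : Set M))).factorization 3 = (cc x).factorization 3 := by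
  refine v3_small_index (inf_le_right (a := commutator M)) ?_
  rw [Subgroup.inf_relIndex_right]
  exact Nat.le_of_dvd two_pos (hidx ▸ Subgroup.relIndex_dvd_index_of_normal _ _)

section

variable {n : ℕ} {Q : QuadraticForm (ZMod 3) (Fin n → ZMod 3)}
variable (hQ : (QuadraticMap.polarBilin Q).Nondegenerate) {c : ZMod 3} (hc : c ≠ 0)
include hQ hc

theorem card_center_refl (hn : 4 ≤ n) :
    Nat.card ↥(Subgroup.center ↥(Cfsg.reflectionSubgroup (⇑Q) c)) ≤ 2 := by
  classical
  let f : ↥(Subgroup.center ↥(Cfsg.reflectionSubgroup (⇑Q) c)) → Bool := fun z =>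
    decide (∀ x, act ((z : ↥(Cfsg.reflectionSubgroup (⇑Q) c)) :
      Cfsg.isometryGroup (ZMod 3) ⇑Q) x = x)
  refine le_trans (Nat.card_le_card_of_injective f fun z z' he => ?_) (by simp)
  have he' : (∀ x, act ((z : ↥(Cfsg.reflectionSubgroup (⇑Q) c)) :
      Cfsg.isometryGroup (ZMod 3) ⇑Q) x = x) ↔ ∀ x, act ((z' : ↥(Cfsg.reflectionSubgroup (⇑Q) c)) :
      Cfsg.isometryGroup (ZMod 3) ⇑Q) x = x := decide_eq_decide.1 he
  refine Subtype.ext (Subtype.ext (iso_ext fun x => ?_))
  rw [← act_apply, ← act_apply]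
  rcases center_scalar hQ hc hn z.2 with h | h
  · rw [h, he'.1 h]
  · rcases center_scalar hQ hc hn z'.2 with h' | h'
    · rw [h', he'.2 h']
    · rw [h, h']

theorem v3_RM (hn : 5 ≤ n) (x : ↥(Cfsg.reflectionSubgroup (⇑Q) c)) :
    (Nat.card ↥(Subgroup.centralizer ({(x : RM Q c)} : Set (RM Q c)))).factorization 3 =
      (Nat.card ↥(Subgroup.centralizer
        ({(x : ↥(Cfsg.isometryGroup (ZMod 3) ⇑Q))} :
          Set ↥(Cfsg.isometryGroup (ZMod 3) ⇑Q)))).factorization 3 := by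
  rw [v3_quot le_rfl (card_center_refl hQ hc (by omega)) x]
  haveI : (Cfsg.reflectionSubgroup (⇑Q) c).Normal := ThreeTransp.Ortho3.refl_normal c
  have h1 : (Nat.card ↥(Subgroup.centralizer ({(x : ↥(Cfsg.isometryGroup (ZMod 3) ⇑Q))} :
      Set ↥(Cfsg.isometryGroup (ZMod 3) ⇑Q)))).factorization 3 =
      (Nat.card ↥(Cfsg.reflectionSubgroup (⇑Q) c ⊓ Subgroup.centralizer
        ({(x : ↥(Cfsg.isometryGroup (ZMod 3) ⇑Q))} :
          Set ↥(Cfsg.isometryGroup (ZMod 3) ⇑Q)))).factorization 3 := by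
    refine v3_small_index inf_le_right ?_
    rw [Subgroup.inf_relIndex_right]
    exact Nat.le_of_dvd two_pos
      (ThreeTransp.Ortho3.index_two hn hQ hc ▸ Subgroup.relIndex_dvd_index_of_normal _ _)
  rw [h1]
  congr 2
  refine Nat.card_congr
    { toFun := fun y => ⟨((y : ↥(Cfsg.reflectionSubgroup (⇑Q) c)) :
        ↥(Cfsg.isometryGroup (ZMod 3) ⇑Q)), (y : ↥(Cfsg.reflectionSubgroup (⇑Q) c)).2,
        Subgroup.mem_centralizer_singleton_iff.2
          (congrArg Subtype.val (Subgroup.mem_centralizer_singleton_iff.1 y.2) :)⟩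
      invFun := fun y => ⟨⟨y, y.2.1⟩, Subgroup.mem_centralizer_singleton_iff.2
        (Subtype.ext (Subgroup.mem_centralizer_singleton_iff.1 y.2.2))⟩
      left_inv := fun _ => rfl
      right_inv := fun _ => rfl }

/-- A frame of a lift of a free involution; the number of planes is even. -/
theorem lift_frame (hn : 4 ≤ n) {z : RM Q c} (hz : Fpf (RE Q c) z) :
    ∃ (g : ↥(Cfsg.reflectionSubgroup (⇑Q) c)) (r : ℕ)
      (e : (Fin r ⊕ Fin r → ZMod 3) ≃ₗ[ZMod 3] (Fin n → ZMod 3))
      (he : ∀ x, Q (e x) = c * sqQ r x),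
      (g : RM Q c) = z ∧ n = 2 * r ∧ Even r ∧
      scaleIso hc e he (rot r) = (g : ↥(Cfsg.isometryGroup (ZMod 3) ⇑Q)) := by
  classical
  obtain ⟨g, hgc, hgz, hgg⟩ := exists_lift hQ hc hn hz
  obtain ⟨r, e, hcard, he, hrot⟩ := exists_frame' hQ hgg hc
  have hφ : scaleIso hc e he (rot r) = (g : ↥(Cfsg.isometryGroup (ZMod 3) ⇑Q)) := by
    refine iso_ext fun v => ?_
    obtain ⟨x, rfl⟩ := e.surjective v
    rw [← act_apply, ← act_apply, act_scaleIso, act_rot, hrot]
  refine ⟨g, r, e, he, hgz, by simpa using hcard, ?_, hφ⟩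
  let ψ : ↥(Cfsg.isometryGroup (ZMod 3) ⇑(sqQ r)) →* ℤˣ :=
    (Forms.Spinor.spin Q 1).comp (scaleIso hc e he).toMonoidHom
  have h1 : ψ (rot r) = 1 := by
    show Forms.Spinor.spin Q 1 (scaleIso hc e he (rot r)) = 1
    rw [hφ]
    exact MonoidHom.mem_ker.1 (Abelianization.commutator_subset_ker
      ((Forms.Spinor.spin Q 1).comp (Cfsg.reflectionSubgroup (⇑Q) c).subtype) hgc)
  have h2 : ψ (rot r) = (-1) ^ r := by
    refine char_rot r ψ fun x y hx hy => ?_
    show Forms.Spinor.spin Q 1 (scaleIso hc e he _) * Forms.Spinor.spin Q 1 (scaleIso hc e he _) = _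
    have hy0 : c * (2 : ZMod 3) ≠ 0 := mul_ne_zero hc (by decide)
    rw [scaleIso_reflect, scaleIso_reflect,
      Forms.Spinor.spin_reflect (by decide) one_ne_zero (by rw [he, hx, mul_one]; exact hc),
      Forms.Spinor.spin_reflect (by decide) one_ne_zero (by rw [he, hy]; exact hy0), he, he, hx, hy]
    have hsq : ∀ a : ZMod 3, a ≠ 0 → (IsSquare (1 / a) ↔ a = 1) := by
      intro a ha
      rw [one_div, isSquare_inv]
      revert ha
      revert a
      unfold IsSquare
      decide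
    rw [mul_one]
    simp only [hsq _ hc, hsq _ hy0]
    have key : ∀ a : ZMod 3, a ≠ 0 →
        (if a = 1 then (-1 : ℤˣ) else 1) * (if a * 2 = 1 then -1 else 1) = -1 := by decide
    exact key c hc
  rw [h1] at h2
  exact neg_one_pow_eq_one_iff_even (by decide) |>.1 h2.symm

end

theorem card_sq_two : Nat.card ↥(Cfsg.isometryGroup (ZMod 3) ⇑(sqQ 2)) = 1152 := by
  obtain ⟨φ⟩ := SylowAb.exists_iso (F := ZMod 3) (by decide) (sqQ_nondeg 2)
    (Forms.PlusStd.plusQ_nondeg (ZMod 3) 2) rfl (by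
      rw [sqQ, SylowAb.discr_dQ, SylowAb.discr_plus]
      simp
      exact ⟨1, by decide⟩)
  rw [Nat.card_congr φ.toEquiv, Classical.OrthForms.natCard_O_plus (ZMod.card 3) 1]
  rfl

theorem twoClasses_of_isConj {M : Type*} [Group M] {E : Set M} (hidx : (commutator M).index = 2)
    (h : ∀ z z', Fpf E z → Fpf E z' → ∃ g : M, g * z * g⁻¹ = z') : TwoClasses E := by
  intro z₁ z₂ z₃ h₁ h₂ h₃
  obtain ⟨g, hg⟩ := h z₁ z₂ h₁ h₂
  obtain ⟨g', hg'⟩ := h z₁ z₃ h₁ h₃
  by_cases q1 : g ∈ commutator M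
  · exact Or.inl ⟨g, q1, hg⟩
  by_cases q2 : g' ∈ commutator M
  · exact Or.inr (Or.inl ⟨g', q2, hg'⟩)
  refine Or.inr (Or.inr ⟨g' * g⁻¹, (Subgroup.mul_mem_iff_of_index_two hidx).2
    (iff_of_false q2 fun q => q1 (by simpa using inv_mem q)), ?_⟩)
  rw [← hg', ← hg]
  group

section

variable {n : ℕ} {Q : QuadraticForm (ZMod 3) (Fin n → ZMod 3)}
variable (hQ : (QuadraticMap.polarBilin Q).Nondegenerate) {c : ZMod 3} (hc : c ≠ 0)
include hQ hc

theorem refl_dim (h : Forced (RE Q c)) : n = 8 := by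
  obtain ⟨z, hz, hcc⟩ := h.exists_fpf
  have hn : 4 ≤ n := by
    by_contra hlt
    by_cases hn3 : n = 3
    · subst hn3
      haveI := solvable_three Q hQ
      exact h.notSolv (solvable_RM Q c)
    · haveI := solvable_le_two (show n ≤ 2 by omega) ⇑Q
      exact h.notSolv (solvable_RM Q c)
  obtain ⟨g, r, e, he, hgz, hnr, hev, hφ⟩ := lift_frame hQ hc hn hz
  obtain ⟨k, rfl⟩ := hev
  by_contra hn8
  by_cases hr2 : k + k = 2
  · haveI : Group.IsSolvable ↥(Cfsg.isometryGroup (ZMod 3) ⇑Q) := by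
      refine Characters.burnside_pa_qb (p := 2) (q := 3) (a := 7) (b := 2) Nat.prime_two
        Nat.prime_three ?_
      rw [← Nat.card_congr (scaleIso hc e he).toEquiv]
      revert e he hφ
      rw [hr2]
      intro e he hφ
      rw [card_sq_two]
      norm_num
    exact h.notSolv (solvable_RM Q c)
  obtain ⟨j, hj⟩ : ∃ j, k + k = j + 2 := ⟨k + k - 2, by omega⟩
  have hup := v3_Cstd (k + k)
  have hCg : Nat.card ↥(Subgroup.centralizer ({(g : ↥(Cfsg.isometryGroup (ZMod 3) ⇑Q))} :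
      Set ↥(Cfsg.isometryGroup (ZMod 3) ⇑Q))) = Nat.card ↥(Cstd (k + k)) := by
    rw [← hφ]
    refine (Nat.card_congr ((scaleIso hc e he).toEquiv.subtypeEquiv fun x => ?_)).symm
    simp only [Cstd, Subgroup.mem_centralizer_singleton_iff, MulEquiv.toEquiv_eq_coe,
      EquivLike.coe_coe]
    rw [← map_mul, ← map_mul, (scaleIso hc e he).injective.eq_iff]
  rw [← hCg, ← v3_RM hQ hc (by omega) g, hgz, v3_cc' h.index] at hup
  revert e he hφ hCg hup
  rw [hj]
  intro e he hφ hup hCg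
  set u : Fin (j + 2) ⊕ Fin (j + 2) → ZMod 3 := Pi.single (.inl 0) 1 with hu
  set w : Fin (j + 2) ⊕ Fin (j + 2) → ZMod 3 := Pi.single (.inr 0) 1 with hw
  have hQu : Q (e u) = c := by rw [he, sqQ_apply]; simp [hu, Pi.single_apply]
  have hQw : Q (e w) = c := by rw [he, sqQ_apply]; simp [hw, Pi.single_apply]
  set a : ↥(Cfsg.reflectionSubgroup (⇑Q) c) := ⟨_, ThreeTransp.Ortho3.reflect_mem hQu⟩
  set b : ↥(Cfsg.reflectionSubgroup (⇑Q) c) := ⟨_, ThreeTransp.Ortho3.reflect_mem hQw⟩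
  have huw : QuadraticMap.polar Q (e u) (e w) = 0 := by
    simp only [QuadraticMap.polar, ← map_add, he]
    rw [show c * sqQ (j + 2) (u + w) - c * sqQ (j + 2) u - c * sqQ (j + 2) w =
      c * QuadraticMap.polar (sqQ (j + 2)) u w by simp only [QuadraticMap.polar]; ring, sqQ_polar]
    simp [hu, hw, Pi.single_apply]
  have hab : Commute a b := by
    have h1 := Forms.Spinor.reflect_conj (reflect Q (e u)) (e w)
    rw [act_reflect, huw, mul_zero, zero_smul, sub_zero] at h1
    exact Subtype.ext (mul_inv_eq_iff_eq_mul.1 h1)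
  have hne : (a : RM Q c) ≠ (b : RM Q c) := by
    intro heq
    have hz' : a⁻¹ * b ∈ Subgroup.center ↥(Cfsg.reflectionSubgroup (⇑Q) c) := QuotientGroup.eq.1 heq
    set x : Fin (j + 2) ⊕ Fin (j + 2) → ZMod 3 := Pi.single (.inl 1) 1 with hx
    have hval : ((a⁻¹ * b : ↥(Cfsg.reflectionSubgroup (⇑Q) c)) :
        ↥(Cfsg.isometryGroup (ZMod 3) ⇑Q)) =
        scaleIso hc e he (reflect (sqQ (j + 2)) u * reflect (sqQ (j + 2)) w) := by
      rw [map_mul, scaleIso_reflect, scaleIso_reflect]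
      show (reflect Q (e u))⁻¹ * reflect Q (e w) = _
      rw [ThreeTransp.Ortho3.inv_reflect]
    have hcalc : ∀ y, act (reflect (sqQ (j + 2)) u * reflect (sqQ (j + 2)) w) y =
        y - (2 * y (.inr 0)) • w - (2 * y (.inl 0)) • u := by
      intro y
      have p1 : ∀ y', QuadraticMap.polar (sqQ (j + 2)) u y' = 2 * y' (.inl 0) := fun y' => by
        rw [QuadraticMap.polar_comm]; exact (polar_first y').1
      have p2 : ∀ y', QuadraticMap.polar (sqQ (j + 2)) w y' = 2 * y' (.inr 0) := fun y' => by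
        rw [QuadraticMap.polar_comm]; exact (polar_first y').2
      have q1 : sqQ (j + 2) u = 1 := by rw [sqQ_apply]; simp [hu, Pi.single_apply]
      have q2 : sqQ (j + 2) w = 1 := by rw [sqQ_apply]; simp [hw, Pi.single_apply]
      rw [act_mul, act_reflect, act_reflect, q1, q2, inv_one, one_mul, one_mul, p2, p1]
      simp [hw]
    rcases center_scalar hQ hc hn hz' with h1 | h1
    · have := h1 (e u)
      rw [hval, act_scaleIso, hcalc, e.injective.eq_iff] at this
      have := congrFun this (.inl 0)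
      simp [hu, hw] at this
      exact (show (2 : ZMod 3) ≠ 0 by decide) this
    · have := h1 (e x)
      rw [hval, act_scaleIso, hcalc, ← map_neg, e.injective.eq_iff] at this
      have := congrFun this (.inl 1)
      simp [hu, hw, hx] at this
      exact (show (1 : ZMod 3) ≠ -1 by decide) this
  have hmemE : ∀ {v : Fin n → ZMod 3} (hv : Q v = c),
      ((⟨_, ThreeTransp.Ortho3.reflect_mem hv⟩ : ↥(Cfsg.reflectionSubgroup (⇑Q) c)) : RM Q c) ∈
        RE Q c := fun hv => ⟨_, ThreeTransp.Ortho3.mem_norm.2 ⟨_, hv, rfl⟩, rfl⟩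
  rw [hcc _ (hmemE hQu) _ (hmemE hQw) hne (hab.map (QuotientGroup.mk' _)),
    ← QuotientGroup.mk_mul, ← v3_cc' h.index, v3_RM hQ hc (by omega)] at hup
  have hlow : (Nat.card ↥(Cfsg.isometryGroup (ZMod 3) ⇑(sqQ (j + 1)))).factorization 3 ≤
      (Nat.card ↥(Subgroup.centralizer ({((a * b : ↥(Cfsg.reflectionSubgroup (⇑Q) c)) :
        ↥(Cfsg.isometryGroup (ZMod 3) ⇑Q))} : Set ↥(Cfsg.isometryGroup (ZMod 3) ⇑Q)))).factorization 3 := by
    refine (Nat.factorization_le_iff_dvd Nat.card_pos.ne' Nat.card_pos.ne').2 ?_ 3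
    refine (card_dvd_two_reflections (j + 1)).trans (dvd_of_eq ?_)
    refine Nat.card_congr ((scaleIso hc e he).toEquiv.subtypeEquiv fun x => ?_)
    simp only [Subgroup.mem_centralizer_singleton_iff, MulEquiv.toEquiv_eq_coe, EquivLike.coe_coe]
    rw [show ((a * b : ↥(Cfsg.reflectionSubgroup (⇑Q) c)) : ↥(Cfsg.isometryGroup (ZMod 3) ⇑Q)) =
      scaleIso hc e he (reflect (sqQ (j + 2)) u * reflect (sqQ (j + 2)) w) by
        rw [map_mul, scaleIso_reflect, scaleIso_reflect]; rfl]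
    rw [← map_mul, ← map_mul, (scaleIso hc e he).injective.eq_iff]
  have hj2 : Even j := ⟨k - 1, by omega⟩
  have h3 := v3_O_sq j hj2
  have h4 : (j + 2) * (j + 2 - 1) = (j + 2) * (j + 1) := rfl
  have h5 : 4 ≤ j := by
    obtain ⟨i, rfl⟩ := hj2
    omega
  nlinarith

theorem refl_twoClasses (h : Forced (RE Q c)) : TwoClasses (RE Q c) := by
  obtain rfl := refl_dim hQ hc h
  refine twoClasses_of_isConj h.index fun z z' hz hz' => ?_
  obtain ⟨g, r, e, he, hgz, hr, -, hφ⟩ := lift_frame hQ hc (by norm_num) hz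
  obtain ⟨g', r', e', he', hgz', hr', -, hφ'⟩ := lift_frame hQ hc (by norm_num) hz'
  obtain rfl : r = 4 := by omega
  obtain rfl : r' = 4 := by omega
  -- an isometry carrying one quarter turn to the other
  set h₀ : ↥(Cfsg.isometryGroup (ZMod 3) ⇑Q) := isoOfEquiv _ (e.symm.trans e') (fun v => by
    obtain ⟨x, rfl⟩ := e.surjective v
    rw [LinearEquiv.trans_apply, LinearEquiv.symm_apply_apply, he', he]) with hh₀
  have hact : ∀ x, act h₀ (e x) = e' x := fun x => by
    rw [act_apply, hh₀, isoOfEquiv_mulVec]; simp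
  have hconj₀ : h₀ * (g : ↥(Cfsg.isometryGroup (ZMod 3) ⇑Q)) * h₀⁻¹ =
      (g' : ↥(Cfsg.isometryGroup (ZMod 3) ⇑Q)) := by
    rw [mul_inv_eq_iff_eq_mul, ← hφ, ← hφ']
    refine iso_ext fun v => ?_
    obtain ⟨x, rfl⟩ := e.surjective v
    rw [← act_apply, ← act_apply, act_mul, act_mul, act_scaleIso, hact, hact, act_scaleIso]
  -- an element outside the reflection subgroup commuting with `g`
  set v : Fin 4 ⊕ Fin 4 → ZMod 3 := Pi.single (.inl 0) 1 with hv
  set w : Fin 4 ⊕ Fin 4 → ZMod 3 := Pi.single (.inl 0) 1 + Pi.single (.inr 0) 1 with hw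
  set a := scaleIso hc e he (reflect (sqQ 4) w * reflect (sqQ 4) v) with ha
  have hQv : Q (e v) = c := by rw [he, sqQ_apply]; simp [hv, Pi.single_apply]
  have hQw : Q (e w) = -c := by
    rw [he, sqQ_apply, Fintype.sum_sum_type]
    simp [hw, Pi.single_apply]
    have h3 : (3 : ZMod 3) = 0 := by decide
    linear_combination c * h3
  have haR : a ∉ (Cfsg.reflectionSubgroup (⇑Q) c) := by
    intro hmem
    haveI := ThreeTransp.Ortho3.refl_normal (Q := Q) c
    rw [ha, map_mul, scaleIso_reflect, scaleIso_reflect] at hmem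
    have hwR : reflect Q (e w) ∈ (Cfsg.reflectionSubgroup (⇑Q) c) :=
      (Subgroup.mul_mem_cancel_right (Cfsg.reflectionSubgroup (⇑Q) c) (ThreeTransp.Ortho3.reflect_mem hQv)).1 hmem
    have hall : refGroup Q ≤ (Cfsg.reflectionSubgroup (⇑Q) c) := (Subgroup.closure_le _).2 (by
      rintro _ ⟨y, hy, rfl⟩
      rcases ThreeTransp.Ortho3.value_cases hy hc with hyc | hyc
      · exact ThreeTransp.Ortho3.reflect_mem hyc
      · have := ThreeTransp.Ortho3.pair_mem (n := 8) (by norm_num) hQ hc hQw hyc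
        exact (Subgroup.mul_mem_cancel_left (Cfsg.reflectionSubgroup (⇑Q) c) hwR).1 this)
    have h1 := ThreeTransp.Ortho3.index_two (n := 8) (by norm_num) hQ hc
    rw [refGroup_eq_top hQ (Or.inr (by simp)), top_le_iff] at hall
    rw [hall, Subgroup.index_top] at h1
    omega
  have hag : Commute a (g : ↥(Cfsg.isometryGroup (ZMod 3) ⇑Q)) := by
    rw [ha, ← hφ]
    refine Commute.map ?_ (scaleIso hc e he).toMonoidHom
    refine iso_ext fun x => ?_
    rw [← act_apply, ← act_apply]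
    simp only [act_mul, act_rot, act_reflect]
    have p1 : ∀ y, QuadraticMap.polar (sqQ 4) v y = 2 * y (.inl 0) := fun y => by
      rw [QuadraticMap.polar_comm]; exact (polar_first y).1
    have p2 : ∀ y, QuadraticMap.polar (sqQ 4) w y = 2 * (y (.inl 0) + y (.inr 0)) := fun y => by
      rw [QuadraticMap.polar_comm, hw, QuadraticMap.polar_add_right, (polar_first y).1,
        (polar_first y).2]
      ring
    have q1 : sqQ 4 v = 1 := by rw [sqQ_apply]; simp [hv, Pi.single_apply]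
    have q2 : sqQ 4 w = 2 := by
      rw [sqQ_apply, Fintype.sum_sum_type]; simp [hw, Pi.single_apply]; rfl
    have h22 : (2 : ZMod 3)⁻¹ = 2 := inv_eq_of_mul_eq_one_right (by decide)
    rw [q1, q2, inv_one, h22]
    simp only [p1, p2]
    funext i
    rcases i with i | i <;> by_cases hi : i = 0 <;>
      simp [rotLin, hv, hw, hi] <;>
      (generalize x (Sum.inl 0) = p; generalize x (Sum.inr 0) = q; revert p q; decide)
  obtain ⟨h₁, hh₁, hconj⟩ : ∃ h₁ ∈ (Cfsg.reflectionSubgroup (⇑Q) c), h₁ * (g : ↥(Cfsg.isometryGroup (ZMod 3) ⇑Q)) * h₁⁻¹ =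
      (g' : ↥(Cfsg.isometryGroup (ZMod 3) ⇑Q)) := by
    by_cases hh : h₀ ∈ (Cfsg.reflectionSubgroup (⇑Q) c)
    · exact ⟨h₀, hh, hconj₀⟩
    · refine ⟨h₀ * a, (Subgroup.mul_mem_iff_of_index_two
        (ThreeTransp.Ortho3.index_two (n := 8) (by norm_num) hQ hc)).2 (iff_of_false hh haR), ?_⟩
      rw [← hconj₀, _root_.mul_inv_rev]
      calc h₀ * a * (g : ↥(Cfsg.isometryGroup (ZMod 3) ⇑Q)) * (a⁻¹ * h₀⁻¹)
          = h₀ * (a * (g : ↥(Cfsg.isometryGroup (ZMod 3) ⇑Q)) * a⁻¹) * h₀⁻¹ := by group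
        _ = _ := by rw [hag.eq, mul_inv_cancel_right]
  refine ⟨((⟨h₁, hh₁⟩ : ↥(Cfsg.reflectionSubgroup (⇑Q) c)) : RM Q c), ?_⟩
  rw [← hgz, ← hgz', ← QuotientGroup.mk_inv, ← QuotientGroup.mk_mul, ← QuotientGroup.mk_mul]
  exact congrArg _ (Subtype.ext hconj)

set_option maxHeartbeats 800000 in
theorem refl_iso (h : Forced (RE Q c)) :
    Nonempty (↥(commutator (RM Q c)) ≃* Cfsg.POmega (ZMod 3) (Cfsg.quadFormPlus 4 (ZMod 3))) := by
  obtain rfl := refl_dim hQ hc h
  set π := QuotientGroup.mk' (Subgroup.center ↥(Cfsg.reflectionSubgroup (⇑Q) c)) with hπ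
  have hmap : (commutator ↥(Cfsg.reflectionSubgroup (⇑Q) c)).map π = commutator (RM Q c) := by
    rw [commutator_def, Subgroup.map_commutator, Subgroup.map_top_of_surjective _
      (QuotientGroup.mk'_surjective _), ← commutator_def]
  let f : ↥(commutator ↥(Cfsg.reflectionSubgroup (⇑Q) c)) →* ↥(commutator (RM Q c)) :=
    (π.comp (commutator ↥(Cfsg.reflectionSubgroup (⇑Q) c)).subtype).codRestrict _ fun x => hmap ▸ ⟨x, x.2, rfl⟩
  have hf : Function.Surjective f := fun y => by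
    obtain ⟨x, hx, hxy⟩ : (y : RM Q c) ∈ (commutator ↥(Cfsg.reflectionSubgroup (⇑Q) c)).map π := by rw [hmap]; exact y.2
    exact ⟨⟨x, hx⟩, Subtype.ext hxy⟩
  have hker : f.ker = Subgroup.center ↥(commutator ↥(Cfsg.reflectionSubgroup (⇑Q) c)) := by
    refine le_antisymm (fun k hk => ?_) ?_
    · have hz : (k : ↥(Cfsg.reflectionSubgroup (⇑Q) c)) ∈ Subgroup.center ↥(Cfsg.reflectionSubgroup (⇑Q) c) :=
        (QuotientGroup.eq_one_iff _).1 (congrArg Subtype.val (MonoidHom.mem_ker.1 hk))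
      exact Subgroup.mem_center_iff.2 fun m => Subtype.ext (Subgroup.mem_center_iff.1 hz m)
    · intro k hk
      haveI := h.simple
      rcases Subgroup.Normal.eq_bot_or_eq_top
        (inferInstance : (Subgroup.center ↥(commutator (RM Q c))).Normal) with hb | ht
      · have hfk : f k ∈ Subgroup.center ↥(commutator (RM Q c)) := by
          refine Subgroup.mem_center_iff.2 fun y => ?_
          obtain ⟨m, rfl⟩ := hf y
          rw [← map_mul, ← map_mul, Subgroup.mem_center_iff.1 hk m]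
        rw [hb] at hfk
        exact MonoidHom.mem_ker.2 (Subgroup.mem_bot.1 hfk)
      · exact absurd (Group.isSolvable_of_comm fun a b =>
          (Subgroup.mem_center_iff.1 (ht ▸ Subgroup.mem_top b) a)) h.notSolv
  obtain ⟨e₁, hr⟩ : ∃ e₁ : ↥(commutator ↥(Cfsg.reflectionSubgroup (⇑Q) c)) ≃* ↥(Cfsg.Omega (ZMod 3) ⇑Q), True :=
    ⟨(Subgroup.equivMapOfInjective _ _ (Subgroup.subtype_injective _)).trans
      (MulEquiv.subgroupCongr (ThreeTransp.Ortho3.map_commutator_refl (by norm_num) hQ hc)),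
      trivial⟩
  obtain ⟨z, hz, -⟩ := h.exists_fpf
  obtain ⟨g, r, e, he, -, hr', -, -⟩ := lift_frame hQ hc (by norm_num) hz
  obtain rfl : r = 4 := by omega
  obtain ⟨φ⟩ := SylowAb.exists_iso (F := ZMod 3) (by decide) (sqQ_nondeg 4)
    (Forms.PlusStd.plusQ_nondeg (ZMod 3) 4) rfl (by
      rw [sqQ, SylowAb.discr_dQ, SylowAb.discr_plus]
      simp
      exact ⟨1, by decide⟩)
  let ψ : ↥(Cfsg.isometryGroup (ZMod 3) ⇑Q) ≃*
      ↥(Cfsg.isometryGroup (ZMod 3) ⇑(Forms.PlusStd.plusQ (ZMod 3) 4)) :=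
    (scaleIso hc e he).symm.trans φ
  let ω : ↥(Cfsg.Omega (ZMod 3) ⇑Q) ≃*
      ↥(Cfsg.Omega (ZMod 3) ⇑(Forms.PlusStd.plusQ (ZMod 3) 4)) :=
    (ψ.subgroupMap _).trans (MulEquiv.subgroupCongr (map_commutator' ψ))
  rw [← Classical.OrthForms.plusQ_eq]
  exact ⟨((QuotientGroup.quotientKerEquivOfSurjective f hf).symm.trans
    (QuotientGroup.quotientMulEquivOfEq hker)).trans
      (Classical.SmallIso.centerQuotientCongr (e₁.trans ω))⟩

end

end Cfsg.Agent.Fischer.Disc
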