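import Mathlib

/-!
3-parts of the orders of general linear groups over two elements and of products `4^i - 1`.
-/

set_option autoImplicit false

namespace Cfsg.Agent.Fischer.Disc

/-- the exponent of three -/
noncomputable abbrev v3 (n : ℕ) : ℕ := n.factorization 3

theorem v3_of_not_dvd {n : ℕ} (h : ¬ 3 ∣ n) : v3 n = 0 := Nat.factorization_eq_zero_of_not_dvd h

theorem v3_two_pow (k : ℕ) : v3 (2 ^ k) = 0 :=
  v3_of_not_dvd fun h => by have := Nat.prime_three.dvd_of_dvd_pow h; omega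

theorem v3_mersenne_odd (j : ℕ) : v3 (2 ^ (2 * j + 1) - 1) = 0 := by
  refine v3_of_not_dvd fun h => ?_
  have h4 : 4 ^ j % 3 = 1 := by rw [Nat.pow_mod]; simp
  have h1 : 1 ≤ 2 ^ (2 * j + 1) := Nat.one_le_two_pow
  rw [pow_succ, pow_mul] at h h1
  norm_num at h h1
  omega

theorem v3_mersenne_even {k : ℕ} (hk : 0 < k) (he : Even k) : 1 ≤ v3 (2 ^ k - 1) := by
  obtain ⟨j, rfl⟩ := he
  refine (Nat.prime_three.dvd_iff_one_le_factorization (Nat.sub_ne_zero_of_lt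
    (Nat.one_lt_two_pow (by omega)))).1 ?_
  rw [← two_mul, pow_mul]
  have h4 : (2 ^ 2) ^ j % 3 = 1 := by rw [Nat.pow_mod]; simp
  have := Nat.one_le_pow j (2 ^ 2) (by norm_num)
  omega

/-- `Σ v3 (4^i - 1)` -/
noncomputable def A (r : ℕ) : ℕ := ∑ i ∈ Finset.range r, v3 (2 ^ (2 * (i + 1)) - 1)

theorem A_mono {r s : ℕ} (h : r ≤ s) : A r ≤ A s :=
  Finset.sum_le_sum_of_subset (by simpa using h)

theorem v3_GL_prod (r : ℕ) :
    v3 (∏ i : Fin (2 * r), (2 ^ (2 * r) - 2 ^ (i : ℕ))) = A r := by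
  have hterm : ∀ n : ℕ, ∀ i : Fin n, 2 ^ n - 2 ^ (i : ℕ) = 2 ^ (i : ℕ) * (2 ^ (n - i) - 1) := by
    intro n i
    rw [Nat.mul_sub, mul_one, ← pow_add, Nat.add_sub_cancel' i.2.le]
  have hne : ∀ n : ℕ, ∀ i : Fin n, 2 ^ n - 2 ^ (i : ℕ) ≠ 0 := fun n i =>
    Nat.sub_ne_zero_of_lt (Nat.pow_lt_pow_right one_lt_two i.2)
  rw [v3, Nat.factorization_prod fun i _ => hne _ i, Finsupp.finsetSum_apply]
  have h1 : ∀ n : ℕ, ∀ i : Fin n, (2 ^ n - 2 ^ (i : ℕ)).factorization 3 =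
      v3 (2 ^ (n - i) - 1) := by
    intro n i
    rw [hterm, Nat.factorization_mul (by positivity)
      (Nat.sub_ne_zero_of_lt (Nat.one_lt_two_pow (by omega))), Finsupp.add_apply]
    have h0 : (2 ^ (i : ℕ)).factorization 3 = 0 := v3_two_pow i
    rw [h0, zero_add]
  rw [Finset.sum_congr rfl fun i _ => h1 _ i,
    Fin.sum_univ_eq_sum_range fun i => v3 (2 ^ (2 * r - i) - 1)]
  induction r with
  | zero => simp [A]
  | succ r ih =>
    rw [show 2 * (r + 1) = 2 * r + 1 + 1 by ring, Finset.sum_range_succ', Finset.sum_range_succ']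
    have hsum : ∑ x ∈ Finset.range (2 * r), v3 (2 ^ (2 * r + 1 + 1 - (x + 1 + 1)) - 1) = A r := by
      rw [← ih]
      exact Finset.sum_congr rfl fun x _ => by rw [show 2 * r + 1 + 1 - (x + 1 + 1) = 2 * r - x by omega]
    rw [hsum, show 2 * r + 1 + 1 - (0 + 1) = 2 * r + 1 by omega, v3_mersenne_odd, Nat.sub_zero, A,
      A, Finset.sum_range_succ _ r, show 2 * r + 1 + 1 = 2 * (r + 1) by ring, add_zero]

theorem v3_O_plus (k : ℕ) (hk : Even (k + 1)) :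
    A k + 1 ≤ v3 (2 * 2 ^ ((k + 1) * k) * (2 ^ (k + 1) - 1) *
      ∏ i ∈ Finset.range k, (2 ^ (2 * (i + 1)) - 1)) := by
  have h1 : ∀ i : ℕ, 2 ^ (2 * (i + 1)) - 1 ≠ 0 := fun i =>
    Nat.sub_ne_zero_of_lt (Nat.one_lt_two_pow (by omega))
  have h2 : 2 ^ (k + 1) - 1 ≠ 0 := Nat.sub_ne_zero_of_lt (Nat.one_lt_two_pow (by omega))
  rw [v3, Nat.factorization_mul (by positivity) (Finset.prod_ne_zero_iff.2 fun i _ => h1 i),
    Nat.factorization_mul (by positivity) h2, Finsupp.add_apply, Finsupp.add_apply,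
    Nat.factorization_prod fun i _ => h1 i, Finsupp.finsetSum_apply]
  have h3 := v3_mersenne_even (Nat.succ_pos k) hk
  simp only [A, v3, Nat.succ_eq_add_one] at h3 ⊢
  omega

end Cfsg.Agent.Fischer.Disc
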