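import Cfsg.Agent.Lib.Fischer.Disc.Middle
import Cfsg.Agent.Lib.Fischer.Disc.OTwoArith
import Cfsg.Agent.Lib.Classical.OrthInvolutionClasses
import Cfsg.Agent.Lib.Classical.OrthInvolutionStd
import Cfsg.Agent.Lib.Classical.OrthForms
import Cfsg.Agent.Lib.Characters.Burnside

/-!
Orthogonal models over two elements: only the plus type in dimension eight can be the group of a
fibre of a disconnected class.
-/

set_option autoImplicit false

namespace Cfsg.Agent.Fischer.Disc

open Matrix Module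
open Cfsg.Agent.Forms.QuadStd Cfsg.Agent.Forms.Reflections
open Cfsg.Agent.Classical.OrthInvolution Cfsg.Agent.Classical.OrthForms

section General

variable {ι : Type} [Fintype ι] [DecidableEq ι]

/-- The elements `g` with `g - 1` of rank one. -/
def rankOne (Q : (ι → ZMod 2) → ZMod 2) : Set ↥(Cfsg.isometryGroup (ZMod 2) Q) :=
  {g | (((g : GL ι (ZMod 2)) : Matrix ι ι (ZMod 2)) - 1).rank = 1}

variable {Q : QuadraticForm (ZMod 2) (ι → ZMod 2)}
variable (hQ : (QuadraticMap.polarBilin Q).Nondegenerate)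
include hQ

theorem reflect_rankOne {v : ι → ZMod 2} (hv : Q v ≠ 0) : reflect Q v ∈ rankOne ⇑Q := by
  show Matrix.rank _ = 1
  rw [rank_sub_one]
  obtain ⟨x, hx⟩ : ∃ x, QuadraticMap.polar Q v x ≠ 0 := by
    by_contra! hall
    exact hv (by rw [hQ.1 v hall, QuadraticMap.map_zero])
  have hv0 : v ≠ 0 := fun e => hv (by rw [e, QuadraticMap.map_zero])
  have himg : imSp (reflect Q v) = Submodule.span (ZMod 2) {v} := by
    apply le_antisymm
    · rintro _ ⟨y, rfl⟩
      rw [LinearMap.sub_apply, LinearMap.id_apply, act_reflect]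
      exact Submodule.mem_span_singleton.2 ⟨-((Q v)⁻¹ * QuadraticMap.polar Q v y), by
        rw [sub_sub_cancel_left, neg_smul]⟩
    · rw [Submodule.span_singleton_le_iff_mem]
      refine ⟨-(QuadraticMap.polar Q v x)⁻¹ • (Q v • x), ?_⟩
      rw [LinearMap.sub_apply, LinearMap.id_apply, map_smul, map_smul, act_reflect, smul_sub,
        smul_sub, sub_sub_cancel_left, smul_smul, smul_smul, ← neg_smul]
      rw [show -(-(QuadraticMap.polar Q v x)⁻¹ * Q v * ((Q v)⁻¹ * QuadraticMap.polar Q v x)) = 1 by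
        field_simp, one_smul]
  rw [himg, finrank_span_singleton hv0]

variable {m ν : ℕ}

/-- An involution commuting with no transvection moves a maximal singular space. -/
theorem fpf_datum (hS : Setup Q m ν) {z : ↥(Cfsg.isometryGroup (ZMod 2) ⇑Q)}
    (hz : Fpf (rankOne ⇑Q) z) :
    ∃ (w : Fin m → ι → ZMod 2) (C : Matrix (Fin m) (Fin m) (ZMod 2)),
      Datum z w C ∧ (∀ i, C i i = 0) ∧ Even m ∧ m ≤ ν ∧ 1 ≤ m := by
  haveI : Fact (Nat.Prime 2) := ⟨Nat.prime_two⟩
  obtain ⟨s, b, w, C, hidx, hD, hb⟩ :=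
    hS.idx_of_elem hQ z (orderOf_eq_prime (by rw [pow_two, hz.sq]) hz.ne)
  by_cases hfull : s = m ∧ ∀ i, C i i = 0
  · obtain ⟨rfl, hdiag⟩ := hfull
    obtain ⟨h1, -, h3⟩ := mem_idx.1 hidx
    obtain ⟨h4, h5⟩ := h3 (hb.1 hdiag)
    exact ⟨w, C, hD, hdiag, h4, h5, h1⟩
  · exfalso
    obtain ⟨v, hv, hperp⟩ := exists_perp hQ hD hS.card hfull
    refine hz.free _ (reflect_rankOne hQ hv) ?_
    have h1 := hD.conj (reflect Q v)
    have e : (fun i => act (reflect Q v) (w i)) = w := funext fun i => by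
      rw [act_reflect, hperp, mul_zero, zero_smul, sub_zero]
    rw [e] at h1
    exact (mul_inv_eq_iff_eq_mul.1 (h1.eq hD)).symm

theorem fpf_isConj (hS : Setup Q m ν) {z z' : ↥(Cfsg.isometryGroup (ZMod 2) ⇑Q)}
    (hz : Fpf (rankOne ⇑Q) z) (hz' : Fpf (rankOne ⇑Q) z') : IsConj z z' := by
  obtain ⟨w, C, hD, hd, -⟩ := fpf_datum hQ hS hz
  obtain ⟨w', C', hD', hd', -⟩ := fpf_datum hQ hS hz'
  exact hD.isConj hQ hD' (cong_of_type hD.symm hD.det hD'.symm hD'.det ⟨fun _ => hd', fun _ => hd⟩)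

/-- An element moving a maximal isotropic space has a centralizer with the 3-part of `GL`. -/
theorem v3_centralizer (hcard : Fintype.card ι = 2 * m) {r : ℕ} (hm : m = 2 * r)
    {z : ↥(Cfsg.isometryGroup (ZMod 2) ⇑Q)} {w : Fin m → ι → ZMod 2}
    {C : Matrix (Fin m) (Fin m) (ZMod 2)} (hD : Datum z w C) :
    v3 (Nat.card ↥(Subgroup.centralizer ({z} : Set ↥(Cfsg.isometryGroup (ZMod 2) ⇑Q)))) ≤ A r := by
  classical
  set H := Subgroup.centralizer ({z} : Set ↥(Cfsg.isometryGroup (ZMod 2) ⇑Q)) with hH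
  set W := imSp z with hW
  have hWr : W = LinearMap.range (lc w) := hD.imSp_eq_range hQ
  have hperp : ∀ u, (∀ x ∈ W, QuadraticMap.polar Q x u = 0) → u ∈ W := by
    intro u hu
    have hsub : LinearMap.range (lc w) ≤ LinearMap.ker (coords Q w) := by
      rintro _ ⟨c, rfl⟩; exact coords_eq_zero hD.iso c
    have h1 := (coords Q w).finrank_range_add_finrank_ker
    rw [LinearMap.range_eq_top.2 (coords_surjective hQ hD.li), finrank_top, Module.finrank_pi,
      Module.finrank_pi, Fintype.card_fin, hcard] at h1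
    have heq : LinearMap.range (lc w) = LinearMap.ker (coords Q w) :=
      Submodule.eq_of_le_of_finrank_le hsub (by
        rw [LinearMap.finrank_range_of_inj (lc_injective hD.li), Module.finrank_pi,
          Fintype.card_fin]
        omega)
    rw [hWr, heq, LinearMap.mem_ker]
    funext j
    exact hu (w j) (by rw [hWr]; exact ⟨Pi.single j 1, by simp [Fintype.linearCombination_apply_single]⟩)
  have hinv : ∀ g : H, ∀ x ∈ W, act (g : ↥(Cfsg.isometryGroup (ZMod 2) ⇑Q)) x ∈ W := by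
    rintro g _ ⟨y, rfl⟩
    refine ⟨act (g : ↥(Cfsg.isometryGroup (ZMod 2) ⇑Q)) y, ?_⟩
    rw [LinearMap.sub_apply, LinearMap.id_apply, LinearMap.sub_apply, LinearMap.id_apply, map_sub,
      ← act_mul, ← act_mul, Subgroup.mem_centralizer_singleton_iff.1 g.2]
  let f : H →* Module.End (ZMod 2) W :=
    { toFun := fun g => (act (g : ↥(Cfsg.isometryGroup (ZMod 2) ⇑Q))).restrict (hinv g)
      map_one' := LinearMap.ext fun x => Subtype.ext (by simp [act_one])
      map_mul' := fun g g' => LinearMap.ext fun x => Subtype.ext (by simp [act_mul]) }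
  let F := f.toHomUnits
  have hker : IsPGroup 2 F.ker := by
    refine fun g => ⟨1, Subtype.ext (Subtype.ext (iso_ext fun v => ?_))⟩
    have hfix : ∀ x ∈ W, act ((g : H) : ↥(Cfsg.isometryGroup (ZMod 2) ⇑Q)) x = x := fun x hx => by
      have := LinearMap.congr_fun (congrArg Units.val g.2) ⟨x, hx⟩
      exact congrArg Subtype.val this
    set γ := ((g : H) : ↥(Cfsg.isometryGroup (ZMod 2) ⇑Q)) with hγ
    have hmove : act γ v - v ∈ W := hperp _ fun x hx => by
      rw [sub_eq_add_neg, QuadraticMap.polar_add_right Q, QuadraticMap.polar_neg_right]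
      have := act_polar γ x v
      rw [hfix x hx] at this
      rw [this, add_neg_cancel]
    have h2 := hfix _ hmove
    rw [map_sub, sub_eq_sub_iff_add_eq_add] at h2
    show _ = ((1 : ↥(Cfsg.isometryGroup (ZMod 2) ⇑Q)) : GL ι (ZMod 2)).val *ᵥ v
    rw [← act_apply, ← act_apply, act_one]
    simp only [pow_one, pow_two, Subgroup.coe_mul, ← hγ]
    rw [act_mul]
    funext i
    have h3 := congrFun h2 i
    simp only [Pi.add_apply] at h3
    have two : (2 : ZMod 2) = 0 := by decide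
    linear_combination h3 + (act γ v i - v i) * two
  obtain ⟨b⟩ : Nonempty (Basis (Fin m) (ZMod 2) W) :=
    ⟨Module.finBasisOfFinrankEq _ _ (hD.rank_eq hQ)⟩
  have hGL : Nat.card (Module.End (ZMod 2) W)ˣ =
      ∏ i : Fin m, (2 ^ m - 2 ^ (i : ℕ)) := by
    rw [Nat.card_congr (Units.mapEquiv (LinearMap.toMatrixAlgEquiv b).toMulEquiv).toEquiv]
    show Nat.card (GL (Fin m) (ZMod 2)) = _
    rw [Matrix.card_GL_field, ZMod.card]
  obtain ⟨k, hk⟩ := IsPGroup.iff_card.1 hker
  have hdvd : Nat.card (H ⧸ F.ker) ∣ ∏ i : Fin m, (2 ^ m - 2 ^ (i : ℕ)) := by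
    rw [← hGL, Nat.card_congr (QuotientGroup.quotientKerEquivRange F).toEquiv]
    exact Subgroup.card_subgroup_dvd_card _
  have hne : ∏ i : Fin m, (2 ^ m - 2 ^ (i : ℕ)) ≠ 0 :=
    Finset.prod_ne_zero_iff.2 fun i _ =>
      Nat.sub_ne_zero_of_lt (Nat.pow_lt_pow_right one_lt_two i.2)
  rw [v3, Subgroup.card_eq_card_quotient_mul_card_subgroup F.ker,
    Nat.factorization_mul Nat.card_pos.ne' Nat.card_pos.ne', Finsupp.add_apply, hk]
  have h0 : (2 ^ k).factorization 3 = 0 := v3_two_pow k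
  rw [h0, add_zero]
  refine ((Nat.factorization_le_iff_dvd Nat.card_pos.ne' hne).2 hdvd 3).trans ?_
  subst hm
  exact (v3_GL_prod r).le

omit hQ in
theorem v3_cc {M : Type*} [Group M] [Finite M] (hidx : (commutator M).index = 2) (x : M) :
    v3 (Nat.card ↥(Subgroup.centralizer ({x} : Set M))) = v3 (cc x) := by
  set S := Subgroup.centralizer ({x} : Set M)
  have h1 := Subgroup.card_mul_index ((commutator M).subgroupOf S)
  have h2 : Nat.card ↥((commutator M).subgroupOf S) = cc x := by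
    rw [← Subgroup.inf_subgroupOf_right (commutator M) S]
    exact Nat.card_congr (Subgroup.subgroupOfEquivOfLe inf_le_right).toEquiv
  have h3 : (commutator M).relIndex S ∣ 2 := hidx ▸ Subgroup.relIndex_dvd_index_of_normal _ _
  rw [v3, v3, ← h1, h2, Nat.factorization_mul (by rw [← h2]; exact Nat.card_pos.ne')
    Subgroup.index_ne_zero_of_finite, Finsupp.add_apply]
  change _ + ((commutator M).relIndex S).factorization 3 = _
  rw [Nat.factorization_eq_zero_of_not_dvd (n := (commutator M).relIndex S) fun h => by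
    have := Nat.le_of_dvd two_pos (h.trans h3); omega, add_zero]

end General

/-! ### The two standard forms -/

section Standard

theorem aniso : ∀ z₁ z₂ : ZMod 2, z₁ ^ 2 + 1 * z₁ * z₂ + 1 * z₂ ^ 2 = 0 → z₁ = 0 ∧ z₂ = 0 := by
  decide

theorem not_forced_minus (k : ℕ) : ¬ Forced (rankOne (Cfsg.quadFormMinus k (ZMod 2) 1 1)) := by
  rw [← minQ_eq]
  intro h
  obtain ⟨z, hz, -⟩ := h.exists_fpf
  obtain ⟨w, C, -, -, -, hle, -⟩ :=
    fpf_datum (minQ_nondeg k aniso) (setup_minus k aniso) hz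
  omega

theorem plusQ_coe (m : ℕ) : ⇑(Forms.PlusStd.plusQ (ZMod 2) m) = Cfsg.quadFormPlus m (ZMod 2) :=
  funext fun v => Forms.PlusStd.plusQ_apply _ m v

theorem not_solvable_four :
    Group.IsSolvable ↥(Cfsg.isometryGroup (ZMod 2) ⇑(Forms.PlusStd.plusQ (ZMod 2) 2)) := by
  refine Characters.burnside_pa_qb (p := 2) (q := 3) (a := 3) (b := 2) Nat.prime_two Nat.prime_three
    ?_
  rw [natCard_O_plus (F := ZMod 2) (q := 2) (by simp) 1]
  decide

/-- the indices of all but the first two hyperbolic pairs -/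
def shift (k : ℕ) : Fin k ⊕ Fin k → Fin (2 + k) ⊕ Fin (2 + k) :=
  Sum.map (Fin.natAdd 2) (Fin.natAdd 2)

theorem shift_injective (k : ℕ) : Function.Injective (shift k) :=
  Sum.map_injective.2 ⟨Fin.natAdd_injective _ _, Fin.natAdd_injective _ _⟩

/-- extension of an isometry of the last `k` hyperbolic pairs -/
noncomputable def extLin (k : ℕ)
    (g : ↥(Cfsg.isometryGroup (ZMod 2) ⇑(Forms.PlusStd.plusQ (ZMod 2) k))) :
    (Fin (2 + k) ⊕ Fin (2 + k) → ZMod 2) →ₗ[ZMod 2] (Fin (2 + k) ⊕ Fin (2 + k) → ZMod 2) where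
  toFun v := Function.extend (shift k) (act g (v ∘ shift k)) v
  map_add' v v' := by
    funext i
    by_cases hi : ∃ j, shift k j = i
    · obtain ⟨j, rfl⟩ := hi
      simp [(shift_injective k).extend_apply,
        show (v + v') ∘ shift k = v ∘ shift k + v' ∘ shift k from rfl]
    · simp [Function.extend_apply' _ _ _ hi]
  map_smul' a v := by
    funext i
    by_cases hi : ∃ j, shift k j = i
    · obtain ⟨j, rfl⟩ := hi
      simp [(shift_injective k).extend_apply, show (a • v) ∘ shift k = a • (v ∘ shift k) from rfl]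
    · simp [Function.extend_apply' _ _ _ hi]

theorem extend_comp_shift (k : ℕ) (a : Fin k ⊕ Fin k → ZMod 2)
    (v : Fin (2 + k) ⊕ Fin (2 + k) → ZMod 2) : Function.extend (shift k) a v ∘ shift k = a :=
  funext fun j => (shift_injective k).extend_apply a v j

theorem extLin_comp (k : ℕ)
    (g g' : ↥(Cfsg.isometryGroup (ZMod 2) ⇑(Forms.PlusStd.plusQ (ZMod 2) k)))
    (v : Fin (2 + k) ⊕ Fin (2 + k) → ZMod 2) :
    extLin k g (extLin k g' v) = extLin k (g * g') v := by
  show Function.extend _ (act g (Function.extend _ _ _ ∘ shift k)) _ = _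
  rw [extend_comp_shift, ← act_mul]
  funext i
  by_cases hi : ∃ j, shift k j = i
  · obtain ⟨j, rfl⟩ := hi
    simp [extLin, (shift_injective k).extend_apply]
  · simp [extLin, Function.extend_apply' _ _ _ hi]

theorem extLin_one (k : ℕ) (v : Fin (2 + k) ⊕ Fin (2 + k) → ZMod 2) : extLin k 1 v = v := by
  funext i
  by_cases hi : ∃ j, shift k j = i
  · obtain ⟨j, rfl⟩ := hi
    simp [extLin, (shift_injective k).extend_apply, act_one]
  · simp [extLin, Function.extend_apply' _ _ _ hi]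

theorem shift_not_range (k : ℕ) (i : Fin 2) :
    (¬ ∃ j, shift k j = Sum.inl (Fin.castAdd k i)) ∧
      ¬ ∃ j, shift k j = Sum.inr (Fin.castAdd k i) := by
  constructor <;> rintro ⟨j | j, hj⟩ <;> simp [shift, Fin.ext_iff] at hj <;> omega

theorem extLin_map (k : ℕ)
    (g : ↥(Cfsg.isometryGroup (ZMod 2) ⇑(Forms.PlusStd.plusQ (ZMod 2) k)))
    (v : Fin (2 + k) ⊕ Fin (2 + k) → ZMod 2) :
    Forms.PlusStd.plusQ (ZMod 2) (2 + k) (extLin k g v) =
      Forms.PlusStd.plusQ (ZMod 2) (2 + k) v := by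
  have hsplit : ∀ u : Fin (2 + k) ⊕ Fin (2 + k) → ZMod 2,
      Forms.PlusStd.plusQ (ZMod 2) (2 + k) u =
        (∑ i : Fin 2, u (.inl (Fin.castAdd k i)) * u (.inr (Fin.castAdd k i))) +
          Forms.PlusStd.plusQ (ZMod 2) k (u ∘ shift k) := fun u => by
    rw [Forms.PlusStd.plusQ_apply, Forms.PlusStd.plusQ_apply, Cfsg.quadFormPlus, Fin.sum_univ_add]
    rfl
  rw [hsplit, hsplit v]
  congr 1
  · refine Finset.sum_congr rfl fun i _ => ?_
    obtain ⟨h1, h2⟩ := shift_not_range k i
    simp [extLin, Function.extend_apply' _ _ _ h1, Function.extend_apply' _ _ _ h2]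
  · show Forms.PlusStd.plusQ (ZMod 2) k (Function.extend (shift k) _ v ∘ shift k) = _
    rw [extend_comp_shift, act_map]

/-- the extension as an isometry -/
noncomputable def ext' (k : ℕ)
    (g : ↥(Cfsg.isometryGroup (ZMod 2) ⇑(Forms.PlusStd.plusQ (ZMod 2) k))) :
    ↥(Cfsg.isometryGroup (ZMod 2) ⇑(Forms.PlusStd.plusQ (ZMod 2) (2 + k))) :=
  isoOfEquiv _ (LinearEquiv.ofLinear (extLin k g) (extLin k g⁻¹)
    (LinearMap.ext fun v => by simp [extLin_comp, extLin_one])
    (LinearMap.ext fun v => by simp [extLin_comp, extLin_one])) fun v => extLin_map k g v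

theorem act_ext' (k : ℕ)
    (g : ↥(Cfsg.isometryGroup (ZMod 2) ⇑(Forms.PlusStd.plusQ (ZMod 2) k)))
    (v : Fin (2 + k) ⊕ Fin (2 + k) → ZMod 2) : act (ext' k g) v = extLin k g v := by
  rw [act_apply]
  exact isoOfEquiv_mulVec _ _ _ v

/-- The first two hyperbolic pairs give two commuting transvections centralized by all extensions. -/
theorem card_le_centralizer (k : ℕ) :
    ∃ c ∈ rankOne ⇑(Forms.PlusStd.plusQ (ZMod 2) (2 + k)),
      ∃ c' ∈ rankOne ⇑(Forms.PlusStd.plusQ (ZMod 2) (2 + k)), c ≠ c' ∧ Commute c c' ∧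
        Nat.card ↥(Cfsg.isometryGroup (ZMod 2) ⇑(Forms.PlusStd.plusQ (ZMod 2) k)) ∣
          Nat.card ↥(Subgroup.centralizer ({c * c'} : Set
            ↥(Cfsg.isometryGroup (ZMod 2) ⇑(Forms.PlusStd.plusQ (ZMod 2) (2 + k))))) := by
  classical
  set Q := Forms.PlusStd.plusQ (ZMod 2) (2 + k) with hQ'
  have hQ : (QuadraticMap.polarBilin Q).Nondegenerate := Forms.PlusStd.plusQ_nondeg (ZMod 2) (2 + k)
  let u : Fin 2 → Fin (2 + k) ⊕ Fin (2 + k) → ZMod 2 := fun i =>
    Pi.single (Sum.inl (Fin.castAdd k i)) 1 + Pi.single (Sum.inr (Fin.castAdd k i)) 1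
  have hQu : ∀ i, Q (u i) = 1 := fun i => by
    rw [hQ', Forms.PlusStd.plusQ_apply, Cfsg.quadFormPlus,
      Finset.sum_eq_single (Fin.castAdd k i) (fun b _ hb => by simp [u, hb]) (by simp)]
    simp [u]
  have hu : ∀ i, u i ∘ shift k = 0 := fun i => by
    funext j
    rcases j with j | j <;>
      · simp only [Function.comp_apply, u, shift, Sum.map_inl, Sum.map_inr, Pi.add_apply]
        rw [Pi.single_eq_of_ne (by simp [Fin.ext_iff]; try omega),
          Pi.single_eq_of_ne (by simp [Fin.ext_iff]; try omega)]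
        simp
  have hfix : ∀ g i, act (ext' k g) (u i) = u i := fun g i => by
    rw [act_ext']
    show Function.extend _ _ _ = _
    rw [hu, map_zero]
    funext j
    by_cases hj : ∃ l, shift k l = j
    · obtain ⟨l, rfl⟩ := hj
      rw [(shift_injective k).extend_apply]
      exact (congrFun (hu i) l).symm
    · rw [Function.extend_apply' _ _ _ hj]
  have h01 : QuadraticMap.polar Q (u 0) (u 1) = 0 := by
    rw [hQ', Forms.PlusStd.plusQ_polar, Fin.sum_univ_add, Fin.sum_univ_two]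
    simp [u, Fin.ext_iff]
  have hne : u 0 ≠ u 1 := fun e => by
    have := congrFun e (Sum.inl (Fin.castAdd k 0))
    simp [u, Fin.ext_iff] at this
  have hconj : ∀ (γ : ↥(Cfsg.isometryGroup (ZMod 2) ⇑Q)) (x : Fin (2 + k) ⊕ Fin (2 + k) → ZMod 2),
      Q x ≠ 0 → act γ x = x → Commute γ (reflect Q x) := by
    intro γ x hx hγ
    refine iso_ext fun v => ?_
    rw [← act_apply, ← act_apply, act_mul, act_mul, act_reflect, act_reflect, map_sub, map_smul, hγ,
      show QuadraticMap.polar Q x (act γ v) = QuadraticMap.polar Q x v by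
        conv_lhs => rw [← hγ]
        rw [act_polar]]
  refine ⟨_, reflect_rankOne hQ (v := u 0) (by rw [hQu]; exact one_ne_zero), _,
    reflect_rankOne hQ (v := u 1) (by rw [hQu]; exact one_ne_zero), ?_, ?_, ?_⟩
  · intro e
    set x : Fin (2 + k) ⊕ Fin (2 + k) → ZMod 2 := Pi.single (Sum.inr (Fin.castAdd k 0)) 1
    have h0 : QuadraticMap.polar Q (u 0) x = 1 := by
      rw [hQ', Forms.PlusStd.plusQ_polar, Fin.sum_univ_add, Fin.sum_univ_two]
      simp [u, x, Fin.ext_iff]
    have h1 : QuadraticMap.polar Q (u 1) x = 0 := by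
      rw [hQ', Forms.PlusStd.plusQ_polar, Fin.sum_univ_add, Fin.sum_univ_two]
      simp [u, x, Fin.ext_iff]
    have := congrArg (fun γ => act γ x) e
    simp only [act_reflect, hQu, h0, h1, mul_zero, zero_smul, sub_zero, inv_one, mul_one,
      one_smul, sub_eq_self] at this
    have h2 := congrFun this (Sum.inl (Fin.castAdd k 0))
    simp [u] at h2
  · exact hconj _ _ (by rw [hQu]; exact one_ne_zero)
      (by rw [act_reflect, h01, mul_zero, zero_smul, sub_zero])
  · let φ : ↥(Cfsg.isometryGroup (ZMod 2) ⇑(Forms.PlusStd.plusQ (ZMod 2) k)) →*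
        ↥(Subgroup.centralizer ({reflect Q (u 0) * reflect Q (u 1)} : Set _)) :=
      MonoidHom.mk' (fun g => ⟨ext' k g, Subgroup.mem_centralizer_singleton_iff.2
          ((hconj _ _ (by rw [hQu]; exact one_ne_zero) (hfix g 0)).mul_right
            (hconj _ _ (by rw [hQu]; exact one_ne_zero) (hfix g 1))).eq⟩)
        fun g g' => Subtype.ext (iso_ext fun v => by
          rw [← act_apply, ← act_apply, Subgroup.coe_mul, act_mul, act_ext', act_ext', act_ext',
            extLin_comp])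
    refine Subgroup.card_dvd_of_injective φ ?_
    intro g g' e
    refine iso_ext fun x => ?_
    have e1 : ext' k g = ext' k g' := congrArg Subtype.val e
    have e' := congrArg (fun γ => act γ (Function.extend (shift k) x 0) ∘ shift k) e1
    simp only [act_ext'] at e'
    simpa [extLin, extend_comp_shift, ← act_apply] using e'

theorem not_forced_plus {m : ℕ} (hm : m ≠ 4) :
    ¬ Forced (rankOne (Cfsg.quadFormPlus m (ZMod 2))) := by
  rw [← plusQ_coe]
  intro h
  obtain ⟨z, hz, hcc⟩ := h.exists_fpf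
  obtain ⟨w, C, hD, -, hev, -, hpos⟩ :=
    fpf_datum (Forms.PlusStd.plusQ_nondeg (ZMod 2) m) (setup_plus m) hz
  by_cases h2 : m = 2
  · subst h2
    haveI := not_solvable_four
    exact h.notSolv inferInstance
  obtain ⟨k, rfl⟩ : ∃ k, m = 2 + (k + 1) := ⟨m - 3, by obtain ⟨r, rfl⟩ := hev; omega⟩
  obtain ⟨r, hr⟩ := hev
  have hup := v3_centralizer (r := r) (Forms.PlusStd.plusQ_nondeg (ZMod 2) _)
    (setup_plus (F := ZMod 2) (2 + (k + 1))).card (by omega) hD
  rw [v3_cc h.index] at hup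
  obtain ⟨c, hc, c', hc', hne, hcom, hdvd⟩ := card_le_centralizer (k + 1)
  rw [hcc c hc c' hc' hne hcom, ← v3_cc h.index] at hup
  have hlow := (Nat.factorization_le_iff_dvd Nat.card_pos.ne' Nat.card_pos.ne').2 hdvd 3
  rw [natCard_O_plus (F := ZMod 2) (q := 2) (by simp) k] at hlow
  have h4 : Even (k + 1) := ⟨r - 1, by omega⟩
  have := v3_O_plus k h4
  have := A_mono (show r ≤ k by omega)
  simp only [v3] at *
  omega

theorem twoClasses_plus :
    Forced (rankOne (Cfsg.quadFormPlus 4 (ZMod 2))) →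
      TwoClasses (rankOne (Cfsg.quadFormPlus 4 (ZMod 2))) := by
  rw [← plusQ_coe]
  intro h z₁ z₂ z₃ h₁ h₂ h₃
  have hQ := Forms.PlusStd.plusQ_nondeg (ZMod 2) 4
  obtain ⟨g, hg⟩ := isConj_iff.1 (fpf_isConj hQ (setup_plus 4) h₁ h₂)
  obtain ⟨g', hg'⟩ := isConj_iff.1 (fpf_isConj hQ (setup_plus 4) h₁ h₃)
  by_cases h1 : g ∈ commutator _
  · exact Or.inl ⟨g, h1, hg⟩
  by_cases h2 : g' ∈ commutator _
  · exact Or.inr (Or.inl ⟨g', h2, hg'⟩)
  refine Or.inr (Or.inr ⟨g' * g⁻¹, (Subgroup.mul_mem_iff_of_index_two h.index).2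
    (iff_of_false h2 fun q => h1 (by simpa using inv_mem q)), ?_⟩)
  rw [← hg', ← hg]
  group

end Standard

end Cfsg.Agent.Fischer.Disc
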