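import Cfsg.Agent.Lib.Fischer.Disc.RowsEasy
import Cfsg.Agent.Lib.Fischer.Disc.OTwo
import Cfsg.Agent.Lib.Fischer.Disc.OThree
import Cfsg.Agent.Lib.ThreeTransp.M22.Graph
import Cfsg.Agent.GenA.Tower.Main23
import Cfsg.Agent.GenA.Tower.Main24

/-!
A 3-transposition class with disconnected commuting graph, given Fischer's theorem for the groups
of the fibres.
-/

set_option autoImplicit false

namespace Cfsg.Agent.Fischer.Disc

universe u

/-- Fischer's theorem for `(G, D)`. -/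
def Listed (G : Type u) [Group G] (D : Set G) : Prop :=
  (∃ n : ℕ, ∃ e : G ≃* Equiv.Perm (Fin n), e '' D = {σ : Equiv.Perm (Fin n) | σ.IsSwap}) ∨
  (∃ m : ℕ, ∃ e : G ≃* Matrix.symplecticGroup (Fin m) (ZMod 2), e '' D =
    {g : Matrix.symplecticGroup (Fin m) (ZMod 2) |
      ((g : Matrix (Fin m ⊕ Fin m) (Fin m ⊕ Fin m) (ZMod 2)) - 1).rank = 1}) ∨
  (∃ (n : ℕ) (F : Type) (_ : Field F) (_ : Fintype F), Fintype.card F = 4 ∧
    ∃ e : G ≃* Cfsg.PSU n F 2, e '' D = (QuotientGroup.mk : ↥(Cfsg.SU n F 2) → Cfsg.PSU n F 2) ''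
      {g : ↥(Cfsg.SU n F 2) |
        (((g : Matrix.SpecialLinearGroup (Fin n) F) : Matrix (Fin n) (Fin n) F) - 1).rank = 1}) ∨
  ((∃ m : ℕ, ∃ e : G ≃* ↥(Cfsg.isometryGroup (ZMod 2) (Cfsg.quadFormPlus m (ZMod 2))),
      e '' D = {g : ↥(Cfsg.isometryGroup (ZMod 2) (Cfsg.quadFormPlus m (ZMod 2))) |
        (((g : GL (Fin m ⊕ Fin m) (ZMod 2)) : Matrix (Fin m ⊕ Fin m) (Fin m ⊕ Fin m) (ZMod 2)) - 1).rank = 1}) ∨
    (∃ m : ℕ, ∃ e : G ≃* ↥(Cfsg.isometryGroup (ZMod 2) (Cfsg.quadFormMinus m (ZMod 2) 1 1)),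
      e '' D = {g : ↥(Cfsg.isometryGroup (ZMod 2) (Cfsg.quadFormMinus m (ZMod 2) 1 1)) |
        (((g : GL ((Fin m ⊕ Fin m) ⊕ Fin 2) (ZMod 2)) :
          Matrix ((Fin m ⊕ Fin m) ⊕ Fin 2) ((Fin m ⊕ Fin m) ⊕ Fin 2) (ZMod 2)) - 1).rank = 1})) ∨
  (∃ n : ℕ, ∃ Q : QuadraticForm (ZMod 3) (Fin n → ZMod 3),
    (QuadraticMap.polarBilin Q).Nondegenerate ∧ ∃ c : ZMod 3, c ≠ 0 ∧
    ∃ e : G ≃* ↥(Cfsg.reflectionSubgroup (⇑Q) c) ⧸ Subgroup.center ↥(Cfsg.reflectionSubgroup (⇑Q) c),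
      e '' D = (QuotientGroup.mk : ↥(Cfsg.reflectionSubgroup (⇑Q) c) → _) ''
        {g : ↥(Cfsg.reflectionSubgroup (⇑Q) c) |
          (g : ↥(Cfsg.isometryGroup (ZMod 3) (⇑Q))) ∈ Cfsg.reflectionsOfNorm (⇑Q) c}) ∨
  (Cfsg.IsOfTypeM22 G D ∨ Cfsg.IsOfTypeM23 G D ∨ Cfsg.IsOfTypeM24 G D)

theorem not_forced_sporadic {K : Type u} [Group K] [Finite K] {E : Set K}
    (hE : Cfsg.IsThreeTranspositionGroup E) (hp : Cfsg.IsPrimitiveUnderConj E) (hF : Forced E)
    (h : Cfsg.IsOfTypeM22 K E ∨ Cfsg.IsOfTypeM23 K E ∨ Cfsg.IsOfTypeM24 K E) : False := by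
  have hd : E.ncard * E.ncard ∣ Nat.card K := hF.dvd.trans (Subgroup.card_subgroup_dvd_card _)
  rcases h with h | h | h
  · rw [ThreeTransp.M22.ncard_class hE hp h, ThreeTransp.M22.card_group hE hp h] at hd
    norm_num at hd
  · rw [GenA.Tower.M23.ncard_class hE hp h, GenA.Tower.M23.card_group hE hp h] at hd
    norm_num at hd
  · rw [GenA.Tower.M24.ncard_class hE hp h, GenA.Tower.M24.card_group hE hp h] at hd
    norm_num at hd

/-- A 3-transposition class with disconnected commuting graph, given the list for the fibres. -/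
theorem conclusion {G : Type u} [Group G] [Finite G] {D : Set G} {L : Subgroup G} [L.Normal]
    (h : Ctx D L) {d : G} (hd : d ∈ D) (hlist : Listed (kg L d) (Ctx.eset D L d)) :
    Nonempty (G ⧸ L ≃* Equiv.Perm (Fin 3)) ∧
      (Nonempty (L ≃* Cfsg.Omega (ZMod 2) (Cfsg.quadFormPlus 4 (ZMod 2))) ∨
        Nonempty (L ≃* Cfsg.POmega (ZMod 3) (Cfsg.quadFormPlus 4 (ZMod 3)))) := by
  have hF := h.forced hd
  obtain ⟨hp, -, -⟩ := h.fib_primitive hd
  have hcl := ThreeTransp.Classes.of_class (h.eset_class hd)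
  rcases hlist with ⟨n, e, he⟩ | ⟨m, e, he⟩ | ⟨n, F, _, _, hcard, e, he⟩ |
    (⟨m, e, he⟩ | ⟨m, e, he⟩) | ⟨n, Q, hQ, c, hc, e, he⟩ | hM
  · exact absurd (he ▸ hF.map e) (not_forced_sym n)
  · exact absurd (he ▸ hF.map e) (not_forced_symp m)
  · exact absurd (he ▸ hF.map e) (not_forced_unitary hcard n)
  · have hF' : Forced (rankOne (Cfsg.quadFormPlus m (ZMod 2))) := by
      have := hF.map e
      rw [he] at this
      exact this
    obtain rfl : m = 4 := by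
      by_contra hm
      exact not_forced_plus hm hF'
    have h2 : TwoClasses (Ctx.eset D L d) := TwoClasses.of_map e (by
      rw [he]
      exact twoClasses_plus hF')
    exact ⟨h.quotient_equiv hd h2, Or.inl ⟨(h.commutatorEquiv hd).symm.trans
      ((e.subgroupMap _).trans (MulEquiv.subgroupCongr (map_commutator' e)))⟩⟩
  · have hF' : Forced (rankOne (Cfsg.quadFormMinus m (ZMod 2) 1 1)) := by
      have := hF.map e
      rw [he] at this
      exact this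
    exact absurd hF' (not_forced_minus m)
  · have hF' : Forced (RE Q c) := by
      have := hF.map e
      rw [he] at this
      exact this
    have h2 : TwoClasses (Ctx.eset D L d) := TwoClasses.of_map e (by
      rw [he]
      exact refl_twoClasses hQ hc hF')
    obtain ⟨ω⟩ := refl_iso hQ hc hF'
    exact ⟨h.quotient_equiv hd h2, Or.inr ⟨((h.commutatorEquiv hd).symm.trans
      ((e.subgroupMap _).trans (MulEquiv.subgroupCongr (map_commutator' e)))).trans ω⟩⟩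
  · exact (not_forced_sporadic hcl.1 hp hF hM).elim

/-- The whole statement, given Fischer's theorem. -/
theorem main (hFischer : ∀ {K : Type u} [Group K] [Finite K] {E : Set K},
      Cfsg.IsThreeTranspositionClass E → Subgroup.center K = ⊥ →
      IsSimpleGroup (commutator K) → Listed K E)
    {G : Type u} [Group G] [Finite G] {D : Set G} (hD : Cfsg.IsThreeTranspositionClass D)
    (hZ : Subgroup.center G = ⊥) (h2 : Cfsg.pCore 2 G = ⊥) (h3 : Cfsg.pCore 3 G = ⊥)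
    (hdisc : ¬ (Cfsg.commutingGraph D).Connected) (F : Subgroup G) [F.Normal]
    (hF : F = Cfsg.generalizedFittingSubgroup G) :
    Nonempty (G ⧸ F ≃* Equiv.Perm (Fin 3)) ∧
      (Nonempty (F ≃* Cfsg.Omega (ZMod 2) (Cfsg.quadFormPlus 4 (ZMod 2))) ∨
        Nonempty (F ≃* Cfsg.POmega (ZMod 3) (Cfsg.quadFormPlus 4 (ZMod 3)))) := by
  obtain ⟨L, hL, hLF⟩ := exists_ctx hD hZ h2 h3 hdisc
  obtain ⟨d, hd, -⟩ := hD.2.1
  obtain rfl : F = L := hF.trans hLF
  exact conclusion hL hd (hFischer (hL.eset_class hd) (hL.kg_center hd) (hL.kg_simple hd))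

end Cfsg.Agent.Fischer.Disc
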