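import Cfsg.Agent.Lib.Fischer.Disc.Setup
import Cfsg.Agent.Lib.ThreeTransp.RankThree
import Cfsg.Agent.Lib.ThreeTransp.FarPair
import Cfsg.Agent.S5361

/-!
3-transposition classes with disconnected commuting graph: what the other fibres force inside the
group of one fibre.
-/

set_option autoImplicit false

namespace Cfsg.Agent.Fischer.Disc

open Cfsg.Agent.ThreeTransp

section Abstract

variable {M : Type*} [Group M]

/-- An involution of the derived subgroup commuting with no member of `E`. -/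
structure Fpf (E : Set M) (z : M) : Prop where
  mem : z ∈ commutator M
  sq : z * z = 1
  ne : z ≠ 1
  free : ∀ y ∈ E, ¬ Commute z y

/-- The order of the centralizer in the derived subgroup. -/
noncomputable def cc (z : M) : ℕ :=
  Nat.card ↥(commutator M ⊓ Subgroup.centralizer ({z} : Set M))

/-- What a further fibre forces on the group of one fibre. -/
structure Forced (E : Set M) : Prop where
  exists_fpf : ∃ z, Fpf E z ∧ ∀ c ∈ E, ∀ c' ∈ E, c ≠ c' → Commute c c' → cc z = cc (c * c')
  dvd : E.ncard * E.ncard ∣ Nat.card (commutator M)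
  index : (commutator M).index = 2
  notSolv : ¬ Group.IsSolvable (commutator M)
  simple : IsSimpleGroup (commutator M)

/-- The free involutions form at most two classes of the derived subgroup. -/
def TwoClasses (E : Set M) : Prop :=
  ∀ z₁ z₂ z₃ : M, Fpf E z₁ → Fpf E z₂ → Fpf E z₃ →
    (∃ l ∈ commutator M, l * z₁ * l⁻¹ = z₂) ∨ (∃ l ∈ commutator M, l * z₁ * l⁻¹ = z₃) ∨
      ∃ l ∈ commutator M, l * z₂ * l⁻¹ = z₃

variable {M' : Type*} [Group M'] (f : M ≃* M')

theorem map_commutator' : (commutator M).map f.toMonoidHom = commutator M' := by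
  rw [commutator_def, commutator_def, Subgroup.map_commutator, ← MonoidHom.range_eq_map,
    MonoidHom.range_eq_top.2 f.surjective]

theorem mem_commutator_iff {x : M} : f x ∈ commutator M' ↔ x ∈ commutator M := by
  rw [← map_commutator' f]
  exact Subgroup.mem_map_iff_mem f.injective

theorem cc_map (z : M) : cc (f z) = cc z := by
  refine (Nat.card_congr ((f.toEquiv).subtypeEquiv fun x => ?_)).symm
  rw [Subgroup.mem_inf, Subgroup.mem_inf, Subgroup.mem_centralizer_singleton_iff,
    Subgroup.mem_centralizer_singleton_iff]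
  refine and_congr (mem_commutator_iff f).symm ?_
  change _ ↔ f x * f z = f z * f x
  rw [← map_mul, ← map_mul, f.injective.eq_iff]

theorem Fpf.map {E : Set M} {z : M} (h : Fpf E z) : Fpf (f '' E) (f z) := by
  refine ⟨(mem_commutator_iff f).2 h.mem, by rw [← map_mul, h.sq, map_one],
    by rw [ne_eq, map_eq_one_iff f f.injective]; exact h.ne, ?_⟩
  rintro _ ⟨y, hy, rfl⟩ hc
  refine h.free y hy (f.injective ?_)
  rw [map_mul, map_mul]
  exact hc.eq

theorem Forced.map {E : Set M} (h : Forced E) : Forced (f '' E) := by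
  obtain ⟨z, hz, hcc⟩ := h.exists_fpf
  refine ⟨⟨f z, hz.map f, ?_⟩, ?_, ?_, fun hs => h.notSolv ?_, ?_⟩
  · rintro _ ⟨c, hc, rfl⟩ _ ⟨c', hc', rfl⟩ hne hcom
    rw [cc_map, ← map_mul, cc_map]
    exact hcc c hc c' hc' (fun e => hne (e ▸ rfl))
      (f.injective (by rw [map_mul, map_mul]; exact hcom.eq))
  · rw [Set.ncard_image_of_injective _ f.injective, ← map_commutator' f,
      Subgroup.card_map_of_injective f.injective]
    exact h.dvd
  · rw [← map_commutator' f]
    exact (Subgroup.index_map_equiv _ f).trans h.index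
  · haveI := hs
    exact Group.isSolvable_of_isSolvable_injective
      (f := ((f.toMonoidHom.comp (commutator M).subtype).codRestrict (commutator M')
        fun x => (mem_commutator_iff f).2 x.2))
      fun x y e => Subtype.ext (f.injective (congrArg Subtype.val e))
  · exact ((f.subgroupMap (commutator M)).trans
      (MulEquiv.subgroupCongr (map_commutator' f))).isSimpleGroup_congr.1 h.simple

theorem TwoClasses.of_map {E : Set M} (h : TwoClasses (f '' E)) : TwoClasses E := by
  intro z₁ z₂ z₃ h₁ h₂ h₃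
  have key : ∀ a b : M, (∃ l ∈ commutator M', l * f a * l⁻¹ = f b) →
      ∃ l ∈ commutator M, l * a * l⁻¹ = b := by
    rintro a b ⟨l, hl, he⟩
    obtain ⟨k, rfl⟩ := f.surjective l
    exact ⟨k, (mem_commutator_iff f).1 hl, f.injective (by simpa using he)⟩
  exact (h _ _ _ (h₁.map f) (h₂.map f) (h₃.map f)).imp (key _ _) (Or.imp (key _ _) (key _ _))

end Abstract

variable {G : Type*} [Group G] {D : Set G} {L : Subgroup G}

namespace Ctx

variable (h : Ctx D L) {a b c d e y : G}
include h

theorem not_commute_mul (ha : a ∈ D) (hb : b ∈ D) (hab : a ≠ b) (hy : y ∈ D)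
    (h1 : ¬ Commute y a) (h2 : ¬ Commute y b) : ¬ Commute y (a * b) := by
  intro hc
  have e1 := Basic.braid h.grp.1 hy ha h1
  have e2 := Basic.braid h.grp.1 hy hb h2
  have hy2 := h.mul_self hy
  have e3 : (y * a * y) * (y * b * y) = a * b := by
    calc (y * a * y) * (y * b * y) = y * a * (y * y) * b * y := by simp only [mul_assoc]
      _ = y * (a * b) * y := by rw [hy2, mul_one]; simp only [mul_assoc]
      _ = (a * b) * (y * y) := by rw [hc.eq, mul_assoc]
      _ = a * b := by rw [hy2, mul_one]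
  rw [e1, e2] at e3
  -- `a y a b y b = a b`
  have e4 : y * (a * b) * y = 1 := by
    have e5 : a * (y * (a * b) * y) * b = a * 1 * b := by
      rw [mul_one]
      calc a * (y * (a * b) * y) * b = (a * y * a) * (b * y * b) := by simp only [mul_assoc]
        _ = a * b := e3
    exact mul_left_cancel (mul_right_cancel e5)
  rw [hc.eq, mul_assoc, hy2, mul_one] at e4
  exact hab (by rw [eq_inv_of_mul_eq_one_left e4, h.inv hb])

/-- The product of a commuting pair lies in the component. -/
theorem mul_mem [Finite G] (ha : a ∈ D) (hb : b ∈ D) (hc : Commute a b) : a * b ∈ L := by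
  have := (h.commute_mem_fib ha hb hc).2
  rwa [h.inv ha] at this

theorem free_pair [Finite G] (ha : a ∈ D) (hb : b ∈ D) (hab : a ≠ b) (hc : Commute a b)
    (hy : y ∈ D) (hny : y ∉ fib D L a) : ¬ Commute y (a * b) := by
  refine h.not_commute_mul ha hb hab hy (fun h' => hny (h.commute_mem_fib ha hy h'.symm))
    fun h' => hny (h.fib_trans (h.commute_mem_fib ha hb hc) (h.commute_mem_fib hb hy h'.symm))

theorem fib_primitive [Finite G] (hd : d ∈ D) :
    Cfsg.IsPrimitiveUnderConj (eset D L d) ∧ Cfsg.pCore 2 (kg L d) = ⊥ ∧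
      (Cfsg.commutingGraph (eset D L d)).Connected := by
  obtain ⟨c, hc, hcd, hdc⟩ := h.wide d hd
  have hw : ∃ a ∈ eset D L d, ∃ b ∈ eset D L d, a ≠ b ∧ Commute a b :=
    ⟨⟨d, mem_kg_self⟩, hd, ⟨c, h.mem_kg_of_fib hd (h.commute_mem_fib hd hc hdc)⟩, hc,
      fun e => hcd (congrArg Subtype.val e).symm, Subtype.ext hdc⟩
  have hh := S5361.result (h.eset_class hd) (h.kg_center hd) hw
  have hp := hh.1.1 (h.kg_simple hd)
  exact ⟨hp, (hh.2.1 hp).1, (hh.2.1 hp).2.2⟩

/-- Two ordered commuting pairs are conjugate. -/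
theorem pair_conj [Finite G] {a' b' : G} (ha : a ∈ D) (hb : b ∈ D) (hab : a ≠ b)
    (hc : Commute a b) (ha' : a' ∈ D) (hb' : b' ∈ D) (hab' : a' ≠ b') (hc' : Commute a' b') :
    ∃ g : G, g * a * g⁻¹ = a' ∧ g * b * g⁻¹ = b' := by
  obtain ⟨g, hg⟩ := h.trans a ha a' ha'
  set b₁ := g * b * g⁻¹ with hb₁
  have hb₁D : b₁ ∈ D := h.grp.2.1 g b hb
  have hcb₁ : Commute a' b₁ := hg ▸ Basic.commute_conj.2 hc
  have hnb₁ : b₁ ≠ a' := fun e => hab (mul_left_cancel (mul_right_cancel (hg.trans e.symm)))
  obtain ⟨hp, h2, -⟩ := h.fib_primitive ha'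
  have hcl := Classes.of_class (h.eset_class ha')
  obtain ⟨c, hcD, hca, hac⟩ := h.wide a' ha'
  obtain ⟨k, hk, hke⟩ := RankThree.linked_inner hcl.1 hp
    ⟨⟨a', mem_kg_self⟩, ha', ⟨c, h.mem_kg_of_fib ha' (h.commute_mem_fib ha' hcD hac)⟩, hcD,
      fun e => hca (congrArg Subtype.val e).symm, Subtype.ext hac⟩
    (by rw [h2]; exact bot_le)
    (a := ⟨a', mem_kg_self⟩) (b := ⟨b₁, h.mem_kg_of_fib ha' (h.commute_mem_fib ha' hb₁D hcb₁)⟩)
    (b' := ⟨b', h.mem_kg_of_fib ha' (h.commute_mem_fib ha' hb' hc')⟩)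
    ha' hb₁D hb' (Subtype.ext hcb₁) (Subtype.ext hc')
    (fun e => hnb₁ (congrArg Subtype.val e)) (fun e => hab' (congrArg Subtype.val e).symm)
  refine ⟨(k : G) * g, ?_, ?_⟩
  · have := congrArg Subtype.val (RankThree.loc_commute hk).eq
    rw [show (k : G) * g * a * ((k : G) * g)⁻¹ = (k : G) * (g * a * g⁻¹) * (k : G)⁻¹ by group, hg,
      mul_inv_eq_iff_eq_mul]
    exact this.symm
  · rw [show (k : G) * g * b * ((k : G) * g)⁻¹ = (k : G) * b₁ * (k : G)⁻¹ by rw [hb₁]; group]
    exact congrArg Subtype.val hke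

theorem card_inf_centralizer_conj (g z : G) :
    Nat.card ↥(L ⊓ Subgroup.centralizer ({g * z * g⁻¹} : Set G)) =
      Nat.card ↥(L ⊓ Subgroup.centralizer ({z} : Set G)) := by
  refine (Nat.card_congr ((MulAut.conj g).toEquiv.subtypeEquiv fun x => ?_)).symm
  simp only [Subgroup.mem_inf, Subgroup.mem_centralizer_singleton_iff, MulEquiv.toEquiv_eq_coe,
    EquivLike.coe_coe, MulAut.conj_apply]
  refine and_congr ⟨fun hx => h.conj_L g hx, fun hx => ?_⟩ ?_
  · have := h.conj_L g⁻¹ hx
    simpa [mul_assoc] using this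
  · exact Basic.commute_conj.symm

theorem card_centralizer_pair [Finite G] {a' b' : G} (ha : a ∈ D) (hb : b ∈ D) (hab : a ≠ b)
    (hc : Commute a b) (ha' : a' ∈ D) (hb' : b' ∈ D) (hab' : a' ≠ b') (hc' : Commute a' b') :
    Nat.card ↥(L ⊓ Subgroup.centralizer ({a' * b'} : Set G)) =
      Nat.card ↥(L ⊓ Subgroup.centralizer ({a * b} : Set G)) := by
  obtain ⟨g, rfl, rfl⟩ := h.pair_conj ha hb hab hc ha' hb' hab' hc'
  rw [show g * a * g⁻¹ * (g * b * g⁻¹) = g * (a * b) * g⁻¹ by group, h.card_inf_centralizer_conj]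

theorem cc_kg [Finite G] (hd : d ∈ D) (z : kg L d) :
    cc z = Nat.card ↥(L ⊓ Subgroup.centralizer ({(z : G)} : Set G)) := by
  unfold cc
  rw [h.kg_commutator hd]
  refine Nat.card_congr
    { toFun := fun x => ⟨((x : kg L d) : G), x.2.1, ?_⟩
      invFun := fun x => ⟨⟨x, le_kg x.2.1⟩, x.2.1, ?_⟩
      left_inv := fun x => rfl
      right_inv := fun x => rfl }
  · exact Subgroup.mem_centralizer_singleton_iff.2
      (congrArg Subtype.val (Subgroup.mem_centralizer_singleton_iff.1 x.2.2) :)
  · exact Subgroup.mem_centralizer_singleton_iff.2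
      (Subtype.ext (Subgroup.mem_centralizer_singleton_iff.1 x.2.2))

/-- The involution given by a commuting pair outside the fibre. -/
theorem fpf_of_pair [Finite G] (hd : d ∈ D) (ha : a ∈ D) (hb : b ∈ D) (hab : a ≠ b)
    (hc : Commute a b) (hn : a ∉ fib D L d) :
    Fpf (eset D L d) ⟨a * b, le_kg (h.mul_mem ha hb hc)⟩ := by
  refine ⟨?_, Subtype.ext ?_, ?_, fun y hy hcy => ?_⟩
  · rw [h.kg_commutator hd]; exact h.mul_mem ha hb hc
  · show a * b * (a * b) = 1
    calc a * b * (a * b) = a * (b * a) * b := by simp only [mul_assoc]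
      _ = (a * a) * (b * b) := by rw [← hc.eq]; simp only [mul_assoc]
      _ = 1 := by rw [h.mul_self ha, h.mul_self hb, mul_one]
  · intro e
    have e' : a * b = 1 := congrArg Subtype.val e
    exact hab (by rw [eq_inv_of_mul_eq_one_left e', h.inv hb])
  · have hyf := (h.eset_iff hd).1 hy
    refine h.free_pair ha hb hab hc hy (fun hya => hn ?_) (congrArg Subtype.val hcy.eq).symm
    exact h.fib_trans hyf (h.fib_symm ha hya)

theorem exists_other [Finite G] (hd : d ∈ D) : ∃ e ∈ D, e ∉ fib D L d := by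
  by_contra! hall
  haveI := h.normal
  have := Primitive.index_le_two h.grp h.trans hd fun x hx => (hall x hx).2
  have := h.index
  omega

theorem fib_ncard_conj (g : G) (hd : d ∈ D) :
    (fib D L (g * d * g⁻¹)).ncard = (fib D L d).ncard := by
  rw [← Set.ncard_image_of_injective (fib D L d) (MulAut.conj g).injective]
  congr 1
  ext x
  simp only [Set.mem_image, MulAut.conj_apply]
  constructor
  · intro hx
    refine ⟨g⁻¹ * x * g, ?_, by group⟩
    have := h.conj_fib g⁻¹ hx
    simpa [mul_assoc] using this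
  · rintro ⟨y, hy, rfl⟩
    exact h.conj_fib g hy

theorem eset_ncard (hd : d ∈ D) : (eset D L d).ncard = (fib D L d).ncard := by
  rw [← Set.ncard_image_of_injective (eset D L d) Subtype.val_injective]
  congr 1
  ext y
  exact ⟨fun ⟨k, hk, he⟩ => he ▸ (h.eset_iff hd).1 hk,
    fun hy => ⟨⟨y, h.mem_kg_of_fib hd hy⟩, hy.1, rfl⟩⟩

/-- The centralizer of `d` in the component is transitive on another fibre. -/
theorem transitive_other [Finite G] (hd : d ∈ D) (he : e ∈ D) (hne : e ∉ fib D L d)
    (hx : y ∈ fib D L e) : ∃ l ∈ L, Commute l d ∧ l * e * l⁻¹ = y := by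
  set N : G → Set G := fun a => {b | b ∈ D ∧ Commute a b ∧ b ≠ a} with hN
  have step : ∀ a ∈ D, a ∉ fib D L d → ∀ b ∈ N a, ∃ l ∈ L, Commute l d ∧ l * a * l⁻¹ = b := by
    intro a ha hna b hb
    set φ : G → G := fun c => (d * c) * a * (d * c)⁻¹ with hφ
    have hnd : ∀ {x}, x ∈ fib D L d → ¬ Commute a x := fun {x} hx hax =>
      hna (h.fib_trans hx (h.commute_mem_fib hx.1 ha hax.symm))
    have hmaps : ∀ c ∈ N d, φ c ∈ N a := by
      rintro c ⟨hc, hdc, hcd⟩
      have had := hnd (h.mem_fib hd)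
      have hac := hnd (h.commute_mem_fib hd hc hdc)
      refine ⟨h.grp.2.1 _ a ha, ?_, fun e1 => ?_⟩
      · have e2 : φ c = d * (c * a * c) * d := by
          simp only [hφ, mul_inv_rev, h.inv hc, h.inv hd, mul_assoc]
        have hcde : Commute (a * d * a) (a * c * a) := by
          have h' := (Basic.commute_conj (g := a)).2 hdc
          rwa [h.inv ha] at h'
        have e3 : Commute (d * a * d) (c * a * c) := by
          rw [Basic.braid h.grp.1 hd ha (fun q => had q.symm),
            Basic.braid h.grp.1 hc ha (fun q => hac q.symm)]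
          exact hcde
        have e4 := (Basic.commute_conj (g := d)).2 e3
        rw [h.inv hd] at e4
        have e5 : d * (d * a * d) * d = a := by
          calc d * (d * a * d) * d = (d * d) * a * (d * d) := by simp only [mul_assoc]
            _ = a := by rw [h.mul_self hd, one_mul, mul_one]
        rw [e5] at e4
        rw [e2]
        exact e4
      · exact h.free_pair hd hc (Ne.symm hcd) hdc ha hna
          (mul_inv_eq_iff_eq_mul.1 e1).symm
    have hinj : Set.InjOn φ (N d) := by
      rintro c ⟨hc, hdc, -⟩ c' ⟨hc', hdc', -⟩ heq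
      have hac := hnd (h.commute_mem_fib hd hc hdc)
      have hac' := hnd (h.commute_mem_fib hd hc' hdc')
      simp only [hφ, mul_inv_rev, h.inv hc, h.inv hc', h.inv hd] at heq
      have e1 : c * a * c = c' * a * c' := by
        have : d * (c * a * c) * d = d * (c' * a * c') * d := by
          simpa [mul_assoc] using heq
        exact mul_left_cancel (mul_right_cancel this)
      rw [Basic.braid h.grp.1 hc ha (fun q => hac q.symm),
        Basic.braid h.grp.1 hc' ha (fun q => hac' q.symm)] at e1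
      exact mul_left_cancel (mul_right_cancel e1)
    have hcard : (N a).ncard = (N d).ncard := by
      obtain ⟨g, rfl⟩ := h.trans d hd a ha
      rw [← Set.ncard_image_of_injective (N d) (MulAut.conj g).injective]
      congr 1
      ext x
      simp only [hN, Set.mem_image, Set.mem_setOf_eq, MulAut.conj_apply]
      constructor
      · rintro ⟨hx, hc, hne'⟩
        refine ⟨g⁻¹ * x * g, ⟨Classes.inv_conj_mem h.grp g hx, ?_, ?_⟩, by group⟩
        · have := (Basic.commute_conj (g := g⁻¹)).2 hc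
          simpa [mul_assoc] using this
        · intro e1; exact hne' (by rw [← e1]; group)
      · rintro ⟨x, ⟨hx, hc, hne'⟩, rfl⟩
        exact ⟨h.grp.2.1 g x hx, Basic.commute_conj.2 hc,
          fun e1 => hne' (mul_left_cancel (mul_right_cancel e1))⟩
    have himg : φ '' N d = N a := Set.eq_of_subset_of_ncard_le
      (Set.image_subset_iff.2 hmaps) (by rw [hcard, hinj.ncard_image]) (Set.toFinite _)
    obtain ⟨c, ⟨hc, hdc, -⟩, rfl⟩ := himg.symm ▸ hb
    exact ⟨d * c, h.mul_mem hd hc hdc, (Commute.refl d).mul_left hdc.symm, rfl⟩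
  obtain ⟨hp, -, hconn⟩ := h.fib_primitive he
  obtain ⟨w⟩ := hconn.preconnected ⟨⟨e, mem_kg_self⟩, he⟩
    ⟨⟨y, h.mem_kg_of_fib he hx⟩, hx.1⟩
  suffices hsuf : ∀ u v : eset D L e, (Cfsg.commutingGraph (eset D L e)).Walk u v →
      (∃ l ∈ L, Commute l d ∧ l * e * l⁻¹ = ((u : kg L e) : G)) →
      ∃ l ∈ L, Commute l d ∧ l * e * l⁻¹ = ((v : kg L e) : G) from
    hsuf _ _ w ⟨1, L.one_mem, Commute.one_left d, by simp⟩
  intro u v w
  induction w with
  | nil => exact id
  | @cons u v z huv p ih =>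
    rintro ⟨l, hl, hld, hle⟩
    refine ih ?_
    simp only [Cfsg.commutingGraph, SimpleGraph.fromRel_adj] at huv
    have hcuv : Commute ((u : kg L e) : G) ((v : kg L e) : G) :=
      congrArg Subtype.val (huv.2.elim id fun q => q.symm).eq
    have huf := (h.eset_iff he).1 u.2
    obtain ⟨m, hm, hmd, hme⟩ := step _ u.2
      (fun q => hne (h.fib_trans q (h.fib_symm he huf)))
      _ ⟨v.2, hcuv, fun q => huv.1 (Subtype.ext (Subtype.ext q.symm))⟩
    exact ⟨m * l, L.mul_mem hm hl, hmd.mul_left hld, by rw [← hme, ← hle]; group⟩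

theorem dvd_card [Finite G] (hd : d ∈ D) :
    (fib D L d).ncard * (fib D L d).ncard ∣ Nat.card L := by
  classical
  obtain ⟨e, he, hne⟩ := h.exists_other hd
  have orb : ∀ (H : Subgroup G) (p : G) (s : Set G),
      (∀ g ∈ H, g * p * g⁻¹ ∈ s) → (∀ x ∈ s, ∃ g ∈ H, g * p * g⁻¹ = x) →
      s.ncard * Nat.card ↥(H ⊓ Subgroup.centralizer ({p} : Set G)) = Nat.card H := by
    intro H p s h1 h2
    letI : MulAction H G := MulAction.compHom G
      ((MulAut.conj : G →* MulAut G).comp H.subtype)
    have horb : MulAction.orbit H p = s := by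
      ext x
      exact ⟨fun ⟨g, hg⟩ => hg ▸ h1 g g.2, fun hx => let ⟨g, hg, he⟩ := h2 x hx; ⟨⟨g, hg⟩, he⟩⟩
    have hst : Nat.card (MulAction.stabilizer H p) =
        Nat.card ↥(H ⊓ Subgroup.centralizer ({p} : Set G)) := by
      refine Nat.card_congr
        { toFun := fun x => ⟨((x : H) : G), (x : H).2, ?_⟩
          invFun := fun x => ⟨⟨x, x.2.1⟩, ?_⟩
          left_inv := fun x => rfl
          right_inv := fun x => rfl }
      · exact Subgroup.mem_centralizer_singleton_iff.2 (mul_inv_eq_iff_eq_mul.1 x.2)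
      · exact mul_inv_eq_iff_eq_mul.2 (Subgroup.mem_centralizer_singleton_iff.1 x.2.2)
    rw [← hst, ← horb, ← MulAction.index_stabilizer, mul_comm]
    exact Subgroup.card_mul_index _
  have o1 := orb L d (fib D L d) (fun g hg => h.kg_conj_fib hd (le_kg hg) (h.mem_fib hd))
    (fun x hx => h.exists_conj_fib hd hx)
  have o2 := orb (L ⊓ Subgroup.centralizer ({d} : Set G)) e (fib D L e)
    (fun g hg => h.kg_conj_fib he (le_kg hg.1) (h.mem_fib he))
    (fun x hx => by
      obtain ⟨l, hl, hld, hle⟩ := h.transitive_other hd he hne hx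
      exact ⟨l, ⟨hl, Subgroup.mem_centralizer_singleton_iff.2 hld.eq⟩, hle⟩)
  obtain ⟨g, hg⟩ := h.trans d hd e he
  rw [← hg, h.fib_ncard_conj g hd] at o2
  rw [← o1]
  exact Nat.mul_dvd_mul_left _ (Dvd.intro _ o2)

theorem kg_index [Finite G] (hd : d ∈ D) : (commutator (kg L d)).index = 2 := by
  rw [h.kg_commutator hd, Subgroup.index_eq_two_iff]
  refine ⟨⟨d, mem_kg_self⟩, fun k => ?_⟩
  have e1 : ∀ g : G, g * d ∈ L ↔ d⁻¹ * g ∈ L := fun g => by
    constructor <;> intro hg
    · have := h.conj_L d hg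
      rw [show d * (g * d) * d⁻¹ = d * g by group] at this
      rwa [h.inv hd]
    · have := h.conj_L d⁻¹ hg
      rw [show d⁻¹ * (d⁻¹ * g) * d⁻¹⁻¹ = (d * d)⁻¹ * (g * d) by group, h.mul_self hd, inv_one,
        one_mul] at this
      exact this
  have hdl : (k : G) ∈ L → d⁻¹ * (k : G) ∈ L → False := fun h1 h2 => by
    have := L.mul_mem h1 (L.inv_mem h2)
    rw [mul_inv_rev, inv_inv, mul_inv_cancel_left] at this
    exact h.not_mem hd this
  rw [Subgroup.mem_subgroupOf, Subgroup.mem_subgroupOf, Subgroup.coe_mul, e1]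
  rcases (h.mem_kg_iff hd).1 k.2 with hk | hk
  · exact Or.inr ⟨hk, fun q => hdl hk q⟩
  · exact Or.inl ⟨hk, fun q => hdl q hk⟩

theorem forced [Finite G] (hd : d ∈ D) : Forced (eset D L d) := by
  obtain ⟨e, he, hne⟩ := h.exists_other hd
  obtain ⟨e', he', hee, hec⟩ := h.wide e he
  refine ⟨⟨_, h.fpf_of_pair hd he he' hee.symm hec hne, fun c hc c' hc' hcc hcom => ?_⟩, ?_,
    h.kg_index hd, ?_, h.kg_simple hd⟩
  · rw [h.cc_kg hd, h.cc_kg hd]
    exact h.card_centralizer_pair hc hc' (fun q => hcc (Subtype.ext q))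
      (congrArg Subtype.val hcom.eq :) he he' hee.symm hec
  · rw [h.eset_ncard hd, Nat.card_congr (h.commutatorEquiv hd).toEquiv]
    exact h.dvd_card hd
  · intro hs
    haveI := hs
    haveI := h.kg_simple hd
    have hab : ∀ a b : commutator (kg L d), a * b = b * a :=
      IsSimpleGroup.comm_iff_isSolvable.2 inferInstance
    refine Components.Basic.component_ne_bot h.comp ?_
    rw [← Components.Basic.component_commutator_self h.comp,
      Subgroup.commutator_eq_bot_iff_le_centralizer]
    intro x hx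
    refine Subgroup.mem_centralizer_iff.2 fun y hy => ?_
    have := hab ((h.commutatorEquiv hd).symm ⟨y, hy⟩) ((h.commutatorEquiv hd).symm ⟨x, hx⟩)
    have := congrArg (fun k => ((h.commutatorEquiv hd k : L) : G)) this
    simpa using this

/-- Products of pairs from different fibres are not conjugate under the component. -/
theorem not_conj_pair [Finite G] {a' b' l : G} (ha : a ∈ D) (hb : b ∈ D) (hab : a ≠ b)
    (hc : Commute a b) (ha' : a' ∈ D) (hb' : b' ∈ D) (hc' : Commute a' b')
    (hn : a' ∉ fib D L a) (hl : l ∈ L) : l * (a * b) * l⁻¹ ≠ a' * b' := by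
  intro he
  have hla : l * a * l⁻¹ ∈ fib D L a := h.kg_conj_fib ha (le_kg hl) (h.mem_fib ha)
  refine h.free_pair (h.grp.2.1 l a ha) (h.grp.2.1 l b hb)
    (fun q => hab (mul_left_cancel (mul_right_cancel q))) (Basic.commute_conj.2 hc) ha'
    (fun q => hn (h.fib_trans hla q)) ?_
  rw [show l * a * l⁻¹ * (l * b * l⁻¹) = l * (a * b) * l⁻¹ by group, he]
  exact (Commute.refl a').mul_right hc'

/-- With at most two classes of free involutions there are three fibres. -/
theorem quotient_equiv [Finite G] [L.Normal] (hd : d ∈ D) (h2 : TwoClasses (eset D L d)) :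
    Nonempty (G ⧸ L ≃* Equiv.Perm (Fin 3)) := by
  obtain ⟨e, he, hne⟩ := h.exists_other hd
  have hnc : ¬ Commute d e := h.not_commute_of_not_mem_fib hd he hne
  set π := QuotientGroup.mk' L with hπ
  have hinj : ∀ {x y : G}, y ∈ fib D L x → π y = π x := fun {x y} hy =>
    (QuotientGroup.eq.2 hy.2).symm
  -- the third fibre
  set f := d * e * d with hf
  have hfD : f ∈ D := Classes.conj_mem h.grp hd he
  have hfd : f ∉ fib D L d := by
    intro q
    have := h.conj_fib d q
    rw [show d * d * d⁻¹ = d by group, show d * f * d⁻¹ = e by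
      rw [h.inv hd, hf]
      calc d * (d * e * d) * d = (d * d) * e * (d * d) := by simp only [mul_assoc]
        _ = e := by rw [h.mul_self hd, one_mul, mul_one]] at this
    exact hne this
  have hfe : f ∉ fib D L e := by
    intro q
    rw [hf, Basic.braid h.grp.1 hd he hnc] at q
    have := h.conj_fib e q
    rw [show e * e * e⁻¹ = e by group, show e * (e * d * e) * e⁻¹ = d by
      rw [h.inv he]
      calc e * (e * d * e) * e = (e * e) * d * (e * e) := by simp only [mul_assoc]
        _ = d := by rw [h.mul_self he, one_mul, mul_one]] at this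
    exact hne (h.fib_symm he this)
  have hcov : ∀ x ∈ D, π x = π d ∨ π x = π e ∨ π x = π f := by
    intro x hx
    by_contra hcon
    push_neg at hcon
    obtain ⟨hxd, hxe, hxf⟩ := hcon
    have hxd' : x ∉ fib D L d := fun q => hxd (hinj q)
    obtain ⟨e', he', hee, hec⟩ := h.wide e he
    obtain ⟨f', hf', hff, hfc⟩ := h.wide f hfD
    obtain ⟨x', hx', hxx, hxc⟩ := h.wide x hx
    rcases h2 _ _ _ (h.fpf_of_pair hd he he' hee.symm hec hne)
      (h.fpf_of_pair hd hfD hf' hff.symm hfc hfd)
      (h.fpf_of_pair hd hx hx' hxx.symm hxc hxd') with ⟨l, hl, q⟩ | ⟨l, hl, q⟩ | ⟨l, hl, q⟩ <;>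
      rw [h.kg_commutator hd] at hl <;> replace q := congrArg Subtype.val q
    · exact h.not_conj_pair he he' hee.symm hec hfD hf' hfc hfe hl q
    · exact h.not_conj_pair he he' hee.symm hec hx hx' hxc (fun r => hxe (hinj r)) hl q
    · exact h.not_conj_pair hfD hf' hff.symm hfc hx hx' hxc (fun r => hxf (hinj r)) hl q
  -- the quotient
  set S := π '' D with hS
  have hSgrp : Cfsg.IsThreeTranspositionGroup S := by
    refine ⟨⟨?_, ?_⟩, ?_, ?_⟩
    · rintro _ ⟨x, hx, rfl⟩
      haveI : Fact (Nat.Prime 2) := ⟨Nat.prime_two⟩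
      refine orderOf_eq_prime ?_ fun q => h.not_mem hx ((QuotientGroup.eq_one_iff x).1 q)
      rw [← map_pow, pow_two, h.mul_self hx, map_one]
    · rintro _ ⟨x, hx, rfl⟩ _ ⟨y, hy, rfl⟩
      rw [← map_mul, ← map_pow, ← map_pow]
      exact (h.grp.1.2 x hx y hy).imp (fun q => by rw [q, map_one]) fun q => by rw [q, map_one]
    · intro q
      obtain ⟨g, rfl⟩ := QuotientGroup.mk'_surjective L q
      rintro _ ⟨x, hx, rfl⟩
      exact ⟨g * x * g⁻¹, h.grp.2.1 g x hx, by simp [hπ]⟩
    · rw [hS, ← MonoidHom.map_closure, h.grp.2.2, ← MonoidHom.range_eq_map]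
      exact MonoidHom.range_eq_top.2 (QuotientGroup.mk'_surjective L)
  have hqnc : ¬ Commute (π d) (π e) := by
    intro q
    have hm : f⁻¹ * e ∈ L := by
      refine QuotientGroup.eq.1 (show π f = π e from ?_)
      rw [hf, map_mul, map_mul, q.eq, mul_assoc, ← map_mul, h.mul_self hd, map_one, mul_one]
    exact hfe (h.fib_symm hfD ⟨he, hm⟩)
  have htop : Subgroup.closure ({π d, π e} : Set (G ⧸ L)) = ⊤ := by
    rw [eq_top_iff, ← hSgrp.2.2, Subgroup.closure_le]
    rintro _ ⟨x, hx, rfl⟩
    rcases hcov x hx with q | q | q <;> rw [q]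
    · exact Subgroup.subset_closure (by simp)
    · exact Subgroup.subset_closure (by simp)
    · rw [hf, map_mul, map_mul]
      exact Subgroup.mul_mem _ (Subgroup.mul_mem _ (Subgroup.subset_closure (by simp))
        (Subgroup.subset_closure (by simp))) (Subgroup.subset_closure (by simp))
  obtain ⟨E⟩ := FarPair.equiv_perm hSgrp ⟨d, hd, rfl⟩ ⟨e, he, rfl⟩ hqnc
  exact ⟨((Subgroup.topEquiv).symm.trans (MulEquiv.subgroupCongr htop.symm)).trans E⟩

end Ctx

end Cfsg.Agent.Fischer.Disc
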