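import Cfsg.Agent.Lib.Fischer.Disc.OThreeFrame
import Cfsg.Agent.Lib.Classical.OrthForms
import Cfsg.Agent.S0306

/-!
3-parts of orders in orthogonal groups over three elements: the centralizer of a quarter turn, and
the centralizer of two orthogonal reflections.
-/

set_option autoImplicit false

namespace Cfsg.Agent.Fischer.Disc

open Matrix Module
open Cfsg.Agent.Forms.QuadStd Cfsg.Agent.Forms.Reflections

/-- the number of vectors of given value -/
noncomputable def NN (r : ℕ) (t : ZMod 3) : ℕ :=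
  Nat.card {x : Fin r ⊕ Fin r → ZMod 3 // sqQ r x = t}

theorem NN_succ (r : ℕ) (t : ZMod 3) :
    NN (r + 1) t = ∑ p : ZMod 3 × ZMod 3, NN r (t - (p.1 * p.1 + p.2 * p.2)) := by
  have hsplit : ∀ x : Fin (r + 1) ⊕ Fin (r + 1) → ZMod 3, sqQ (r + 1) x =
      (x (.inl 0) * x (.inl 0) + x (.inr 0) * x (.inr 0)) +
        sqQ r (x ∘ Sum.map Fin.succ Fin.succ) := fun x => by
    rw [sqQ_apply, sqQ_apply, Fintype.sum_sum_type, Fintype.sum_sum_type, Fin.sum_univ_succ,
      Fin.sum_univ_succ]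
    simp only [Function.comp_apply, Sum.map_inl, Sum.map_inr]
    ring
  unfold NN
  rw [← Nat.card_sigma]
  refine Nat.card_congr
    { toFun := fun x => ⟨(x.1 (.inl 0), x.1 (.inr 0)), x.1 ∘ Sum.map Fin.succ Fin.succ, ?_⟩
      invFun := fun p => ⟨Sum.elim (Fin.cons p.1.1 (p.2.1 ∘ Sum.inl))
        (Fin.cons p.1.2 (p.2.1 ∘ Sum.inr)), ?_⟩
      left_inv := fun x => Subtype.ext (funext fun i => ?_)
      right_inv := fun p => ?_ }
  · rw [eq_sub_iff_add_eq, add_comm]
    exact (hsplit x.1).symm.trans x.2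
  · rw [hsplit]
    have e : (Sum.elim (Fin.cons p.1.1 (p.2.1 ∘ Sum.inl)) (Fin.cons p.1.2 (p.2.1 ∘ Sum.inr))) ∘
        Sum.map Fin.succ Fin.succ = p.2.1 := by
      funext i; rcases i with i | i <;> simp
    rw [e, p.2.2]
    simp
  · rcases i with i | i <;> induction i using Fin.cases <;> simp
  · obtain ⟨⟨a, b⟩, y, hy⟩ := p
    apply Sigma.subtype_ext
    · simp
    · funext i; rcases i with i | i <;> simp

theorem NN_val (r : ℕ) : ∀ t : ZMod 3, 3 * (NN r t : ℤ) =
    3 ^ (2 * r) + (if t = 0 then 2 else -1) * (-1) ^ r * 3 ^ r := by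
  induction r with
  | zero =>
    intro t
    have h : NN 0 t = if t = 0 then 1 else 0 := by
      unfold NN
      have e : ∀ x : Fin 0 ⊕ Fin 0 → ZMod 3, sqQ 0 x = 0 := fun x => by rw [sqQ_apply]; simp
      split_ifs with ht
      · rw [Nat.card_eq_one_iff_unique]
        exact ⟨inferInstance, ⟨⟨0, by rw [e, ht]⟩⟩⟩
      · rw [Nat.card_eq_zero]
        exact Or.inl ⟨fun x => ht (by rw [← x.2, e])⟩
    rw [h]; split_ifs <;> simp
  | succ r ih =>
    intro t
    rw [NN_succ, Nat.cast_sum, Finset.mul_sum]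
    simp only [ih, Fintype.sum_prod_type]
    have hs : ∀ f : ZMod 3 → ℤ, ∑ x, f x = f 0 + f 1 + f 2 := fun f => Fin.sum_univ_three f
    simp only [hs, pow_succ, mul_add, pow_add]
    obtain rfl | rfl | rfl : t = 0 ∨ t = 1 ∨ t = 2 := by revert t; decide
    all_goals simp (config := { decide := true })
    all_goals ring

theorem v3_NN (r : ℕ) : (NN (r + 1) 1).factorization 3 = r := by
  have h := NN_val (r + 1) 1
  rw [if_neg (by decide)] at h
  obtain ⟨k, hk, hk3⟩ : ∃ k : ℕ, (k : ℤ) = 3 ^ (r + 1) - (-1) ^ (r + 1) ∧ ¬ 3 ∣ k := by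
    have hpos : (0 : ℤ) ≤ 3 ^ (r + 1) - (-1) ^ (r + 1) := by
      have : (1 : ℤ) ≤ 3 ^ (r + 1) := one_le_pow₀ (by norm_num)
      rcases neg_one_pow_eq_or ℤ (r + 1) with e | e <;> rw [e] <;> linarith
    refine ⟨_, Int.toNat_of_nonneg hpos, fun hd => ?_⟩
    have hd' : (3 : ℤ) ∣ 3 ^ (r + 1) - (-1) ^ (r + 1) :=
      (Int.natCast_dvd_natCast.2 hd).trans (dvd_of_eq (Int.toNat_of_nonneg hpos))
    have h1 : (3 : ℤ) ∣ (-1) ^ (r + 1) := by
      have := dvd_sub (dvd_pow_self (3 : ℤ) (Nat.succ_ne_zero r)) hd'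
      simpa using this
    rcases neg_one_pow_eq_or ℤ (r + 1) with e | e <;> rw [e] at h1 <;> norm_num at h1
  have hN : NN (r + 1) 1 = 3 ^ r * k := by
    have : (NN (r + 1) 1 : ℤ) = 3 ^ r * k := by
      have h' : 3 * (NN (r + 1) 1 : ℤ) = 3 * (3 ^ r * (k : ℤ)) := by
        rw [h, hk, two_mul, pow_add]; ring
      linarith
    exact_mod_cast this
  rw [hN, Nat.factorization_mul (by positivity) (fun e => hk3 (by rw [e]; exact dvd_zero 3)), Finsupp.add_apply,
    Nat.Prime.factorization_pow Nat.prime_three, Nat.factorization_eq_zero_of_not_dvd hk3]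
  simp

/-- the centralizer of the quarter turn -/
noncomputable def Cstd (r : ℕ) : Subgroup (Cfsg.isometryGroup (ZMod 3) ⇑(sqQ r)) :=
  Subgroup.centralizer {rot r}

theorem mem_Cstd {r : ℕ} {g : Cfsg.isometryGroup (ZMod 3) ⇑(sqQ r)} :
    g ∈ Cstd r ↔ ∀ x, act g (rotLin r x) = rotLin r (act g x) := by
  rw [Cstd, Subgroup.mem_centralizer_singleton_iff]
  constructor
  · intro h x
    rw [← act_rot, ← act_rot, ← act_mul, ← act_mul, h]
  · intro h
    refine iso_ext fun x => ?_
    rw [← act_apply, ← act_apply, act_mul, act_mul, act_rot, act_rot, h]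

section Shift

variable {r : ℕ}

/-- all coordinates but the first pair -/
def sh (r : ℕ) : Fin r ⊕ Fin r → Fin (r + 1) ⊕ Fin (r + 1) := Sum.map Fin.succ Fin.succ

theorem sh_injective (r : ℕ) : Function.Injective (sh r) :=
  Sum.map_injective.2 ⟨Fin.succ_injective _, Fin.succ_injective _⟩

theorem not_sh_zero (r : ℕ) : (¬ ∃ a, sh r a = Sum.inl 0) ∧ ¬ ∃ a, sh r a = Sum.inr 0 := by
  constructor <;> rintro ⟨a | a, ha⟩ <;> simp [sh, Fin.succ_ne_zero] at ha

theorem sqQ_split (v : Fin (r + 1) ⊕ Fin (r + 1) → ZMod 3) : sqQ (r + 1) v =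
    (v (.inl 0) * v (.inl 0) + v (.inr 0) * v (.inr 0)) + sqQ r (v ∘ sh r) := by
  rw [sqQ_apply, sqQ_apply, Fintype.sum_sum_type, Fintype.sum_sum_type, Fin.sum_univ_succ,
    Fin.sum_univ_succ]
  simp only [Function.comp_apply, sh, Sum.map_inl, Sum.map_inr]
  ring

/-- extension by zero -/
noncomputable def up (r : ℕ) (x : Fin r ⊕ Fin r → ZMod 3) :
    Fin (r + 1) ⊕ Fin (r + 1) → ZMod 3 := Function.extend (sh r) x 0

theorem up_zero (x : Fin r ⊕ Fin r → ZMod 3) :
    up r x (.inl 0) = 0 ∧ up r x (.inr 0) = 0 :=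
  ⟨Function.extend_apply' _ _ _ (not_sh_zero r).1, Function.extend_apply' _ _ _ (not_sh_zero r).2⟩

theorem up_comp (x : Fin r ⊕ Fin r → ZMod 3) : up r x ∘ sh r = x :=
  funext fun j => (sh_injective r).extend_apply x 0 j

theorem vec_ext {v w : Fin (r + 1) ⊕ Fin (r + 1) → ZMod 3} (h0 : v (.inl 0) = w (.inl 0))
    (h1 : v (.inr 0) = w (.inr 0)) (h : v ∘ sh r = w ∘ sh r) : v = w := by
  funext i
  rcases i with i | i
  · induction i using Fin.cases with
    | zero => exact h0
    | succ i => exact congrFun h (Sum.inl i)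
  · induction i using Fin.cases with
    | zero => exact h1
    | succ i => exact congrFun h (Sum.inr i)

theorem polar_first (v : Fin (r + 1) ⊕ Fin (r + 1) → ZMod 3) :
    QuadraticMap.polar (sqQ (r + 1)) v (Pi.single (.inl 0) 1) = 2 * v (.inl 0) ∧
      QuadraticMap.polar (sqQ (r + 1)) v (Pi.single (.inr 0) 1) = 2 * v (.inr 0) := by
  simp [sqQ_polar, Pi.single_apply]

end Shift

/-- the stabilizer of the first basis vector in the centralizer of the quarter turn -/
noncomputable def stab (r : ℕ) : Subgroup ↥(Cstd (r + 1)) where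
  carrier := {g | act (g : Cfsg.isometryGroup (ZMod 3) ⇑(sqQ (r + 1))) (Pi.single (.inl 0) 1) =
    Pi.single (.inl 0) 1}
  one_mem' := act_one _
  mul_mem' := fun {a b} ha hb => by
    show act _ _ = _
    rw [Subgroup.coe_mul, act_mul, hb, ha]
  inv_mem' := fun {a} ha => by
    show act _ _ = _
    conv_lhs => rw [← ha, Subgroup.coe_inv, ← act_mul, inv_mul_cancel, act_one]

theorem stab_fix {r : ℕ} (g : stab r) (v : Fin (r + 1) ⊕ Fin (r + 1) → ZMod 3) :
    act ((g : Cstd (r + 1)) : Cfsg.isometryGroup (ZMod 3) ⇑(sqQ (r + 1))) v (.inl 0) = v (.inl 0) ∧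
    act ((g : Cstd (r + 1)) : Cfsg.isometryGroup (ZMod 3) ⇑(sqQ (r + 1))) v (.inr 0) =
      v (.inr 0) := by
  set γ := ((g : Cstd (r + 1)) : Cfsg.isometryGroup (ZMod 3) ⇑(sqQ (r + 1)))
  have h1 : act γ (Pi.single (.inl 0) 1) = Pi.single (.inl 0) 1 := g.2
  have hrot : rotLin (r + 1) (Pi.single (.inl 0) (1 : ZMod 3)) = Pi.single (.inr 0) 1 := by
    funext i; rcases i with i | i <;> simp [rotLin, Pi.single_apply]
  have h2 : act γ (Pi.single (.inr 0) 1) = Pi.single (.inr 0) 1 := by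
    rw [← hrot, mem_Cstd.1 (g : Cstd (r + 1)).2, h1]
  have two : (2 : ZMod 3) ≠ 0 := by decide
  constructor <;> refine mul_left_cancel₀ two ?_
  · rw [← (polar_first _).1, ← (polar_first v).1]
    conv_lhs => rw [← h1]
    exact act_polar γ _ _
  · rw [← (polar_first _).2, ← (polar_first v).2]
    conv_lhs => rw [← h2]
    exact act_polar γ _ _

theorem stab_act_up {r : ℕ} (g : stab r) (x : Fin r ⊕ Fin r → ZMod 3) :
    up r (act ((g : Cstd (r + 1)) : Cfsg.isometryGroup (ZMod 3) ⇑(sqQ (r + 1))) (up r x) ∘ sh r) =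
      act ((g : Cstd (r + 1)) : Cfsg.isometryGroup (ZMod 3) ⇑(sqQ (r + 1))) (up r x) := by
  obtain ⟨h1, h2⟩ := stab_fix g (up r x)
  exact vec_ext (by rw [(up_zero _).1, h1, (up_zero x).1])
    (by rw [(up_zero _).2, h2, (up_zero x).2]) (up_comp _)

/-- the restriction to the other planes -/
noncomputable def resLin {r : ℕ} (g : stab r) :
    (Fin r ⊕ Fin r → ZMod 3) →ₗ[ZMod 3] (Fin r ⊕ Fin r → ZMod 3) :=
  (LinearMap.funLeft (ZMod 3) (ZMod 3) (sh r)) ∘ₗ
    act ((g : Cstd (r + 1)) : Cfsg.isometryGroup (ZMod 3) ⇑(sqQ (r + 1))) ∘ₗ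
      { toFun := up r
        map_add' := fun x y => by
          refine vec_ext ?_ ?_ ?_
          · rw [Pi.add_apply, (up_zero _).1, (up_zero _).1, (up_zero _).1, add_zero]
          · rw [Pi.add_apply, (up_zero _).2, (up_zero _).2, (up_zero _).2, add_zero]
          · rw [up_comp, show (up r x + up r y) ∘ sh r = up r x ∘ sh r + up r y ∘ sh r from rfl,
              up_comp, up_comp]
        map_smul' := fun a x => by
          refine vec_ext ?_ ?_ ?_
          · rw [RingHom.id_apply, Pi.smul_apply, (up_zero _).1, (up_zero _).1, smul_zero]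
          · rw [RingHom.id_apply, Pi.smul_apply, (up_zero _).2, (up_zero _).2, smul_zero]
          · rw [RingHom.id_apply, up_comp,
              show (a • up r x) ∘ sh r = a • (up r x ∘ sh r) from rfl, up_comp] }

theorem resLin_apply {r : ℕ} (g : stab r) (x : Fin r ⊕ Fin r → ZMod 3) :
    resLin g x =
      act ((g : Cstd (r + 1)) : Cfsg.isometryGroup (ZMod 3) ⇑(sqQ (r + 1))) (up r x) ∘ sh r := rfl

theorem resLin_mul {r : ℕ} (g g' : stab r) (x : Fin r ⊕ Fin r → ZMod 3) :
    resLin (g * g') x = resLin g (resLin g' x) := by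
  rw [resLin_apply, resLin_apply, resLin_apply, stab_act_up]
  simp only [Subgroup.coe_mul, act_mul]

theorem resLin_one {r : ℕ} (x : Fin r ⊕ Fin r → ZMod 3) : resLin (1 : stab r) x = x := by
  rw [resLin_apply]
  simp only [Subgroup.coe_one, act_one, up_comp]

/-- the restriction as an isometry -/
noncomputable def resIso {r : ℕ} (g : stab r) : Cfsg.isometryGroup (ZMod 3) ⇑(sqQ r) :=
  isoOfEquiv _ (LinearEquiv.ofLinear (resLin g) (resLin g⁻¹)
    (LinearMap.ext fun x => by simp [← resLin_mul, resLin_one])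
    (LinearMap.ext fun x => by simp [← resLin_mul, resLin_one])) fun x => by
      show sqQ r (resLin g x) = _
      have h := act_map ((g : Cstd (r + 1)) : Cfsg.isometryGroup (ZMod 3) ⇑(sqQ (r + 1))) (up r x)
      rw [sqQ_split, sqQ_split, (stab_fix g _).1, (stab_fix g _).2, (up_zero x).1, (up_zero x).2,
        up_comp, add_right_inj] at h
      exact h

theorem act_resIso {r : ℕ} (g : stab r) (x : Fin r ⊕ Fin r → ZMod 3) :
    act (resIso g) x = resLin g x := by
  rw [act_apply]; exact isoOfEquiv_mulVec _ _ _ x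

theorem resIso_mem {r : ℕ} (g : stab r) : resIso g ∈ Cstd r := by
  rw [mem_Cstd]
  intro x
  rw [act_resIso, act_resIso, resLin_apply, resLin_apply]
  have e : up r (rotLin r x) = rotLin (r + 1) (up r x) := by
    refine vec_ext ?_ ?_ ?_
    · rw [(up_zero _).1]; show (0 : ZMod 3) = -up r x (.inr 0); rw [(up_zero x).2, neg_zero]
    · rw [(up_zero _).2]; show (0 : ZMod 3) = up r x (.inl 0); rw [(up_zero x).1]
    · rw [up_comp]
      funext i
      have := up_comp x
      rcases i with i | i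
      · show -x (.inr i) = -(up r x (sh r (.inr i)))
        rw [show up r x (sh r (.inr i)) = x (.inr i) from congrFun this _]
      · show x (.inl i) = up r x (sh r (.inl i))
        rw [show up r x (sh r (.inl i)) = x (.inl i) from congrFun this _]
  rw [e, mem_Cstd.1 (g : Cstd (r + 1)).2]
  funext i
  rcases i with i | i <;> rfl

theorem resIso_injective {r : ℕ} : Function.Injective (resIso (r := r)) := by
  intro g g' h
  refine Subtype.ext (Subtype.ext (iso_ext fun v => ?_))
  rw [← act_apply, ← act_apply]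
  refine vec_ext ?_ ?_ ?_
  · rw [(stab_fix g v).1, (stab_fix g' v).1]
  · rw [(stab_fix g v).2, (stab_fix g' v).2]
  · have hv : v = up r (v ∘ sh r) + v (.inl 0) • Pi.single (.inl 0) (1 : ZMod 3) +
        v (.inr 0) • Pi.single (.inr 0) (1 : ZMod 3) := by
      refine vec_ext ?_ ?_ ?_
      · simp [(up_zero _).1]
      · simp [(up_zero _).2]
      · funext i
        have := congrFun (up_comp (v ∘ sh r)) i
        rcases i with i | i <;> simp_all [sh, Fin.succ_ne_zero]
    have hrot : rotLin (r + 1) (Pi.single (.inl 0) (1 : ZMod 3)) = Pi.single (.inr 0) 1 := by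
      funext i; rcases i with i | i <;> simp [rotLin, Pi.single_apply]
    have hx : resLin g (v ∘ sh r) = resLin g' (v ∘ sh r) := by rw [← act_resIso, h, act_resIso]
    rw [hv, map_add, map_add, map_add, map_add, map_smul, map_smul, map_smul, map_smul, ← hrot,
      mem_Cstd.1 (g : Cstd (r + 1)).2, mem_Cstd.1 (g' : Cstd (r + 1)).2,
      show act ((g : Cstd (r + 1)) : Cfsg.isometryGroup (ZMod 3) ⇑(sqQ (r + 1)))
        (Pi.single (.inl 0) 1) = Pi.single (.inl 0) 1 from g.2,
      show act ((g' : Cstd (r + 1)) : Cfsg.isometryGroup (ZMod 3) ⇑(sqQ (r + 1)))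
        (Pi.single (.inl 0) 1) = Pi.single (.inl 0) 1 from g'.2]
    funext i
    have := congrFun hx i
    simp only [resLin_apply, Function.comp_apply] at this
    simp only [Function.comp_apply, Pi.add_apply, this]

/-- the restriction as a homomorphism -/
noncomputable def resHom (r : ℕ) : stab r →* Cstd r :=
  MonoidHom.mk' (fun g => ⟨resIso g, resIso_mem g⟩) fun g g' => Subtype.ext (iso_ext fun x => by
    rw [← act_apply, ← act_apply, Subgroup.coe_mul, act_mul, act_resIso, act_resIso, act_resIso,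
      resLin_mul])

theorem Cstd_transitive {r : ℕ} {x : Fin (r + 1) ⊕ Fin (r + 1) → ZMod 3}
    (hx : sqQ (r + 1) x = 1) :
    ∃ g ∈ Cstd (r + 1), act g (Pi.single (.inl 0) 1) = x := by
  obtain ⟨r', hr', e, hcard, hval, hrot, hx'⟩ :=
    frame_at (sqQ_nondeg (r + 1)) (act_rot_rot (r + 1)) one_ne_zero hx
  have : r' = r + 1 := by simp at hcard; omega
  subst this
  refine ⟨isoOfEquiv _ e fun v => by rw [hval, one_mul], mem_Cstd.2 fun v => ?_, ?_⟩
  · rw [act_apply, act_apply, isoOfEquiv_mulVec, isoOfEquiv_mulVec]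
    exact (hrot v).symm.trans (act_rot _ _)
  · rw [act_apply, isoOfEquiv_mulVec]
    exact hx'

/-- the vectors of value one -/
def Sphere (r : ℕ) : Type := {x : Fin r ⊕ Fin r → ZMod 3 // sqQ r x = 1}

instance (r : ℕ) : Finite (Sphere r) :=
  inferInstanceAs (Finite {x : Fin r ⊕ Fin r → ZMod 3 // sqQ r x = 1})

noncomputable instance (priority := high) sphereSMul (r : ℕ) : SMul ↥(Cstd r) (Sphere r) :=
  ⟨fun g x => ⟨act (g : Cfsg.isometryGroup (ZMod 3) ⇑(sqQ r)) x.1, by rw [act_map, x.2]⟩⟩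

noncomputable instance (priority := high) sphereAction (r : ℕ) :
    MulAction ↥(Cstd r) (Sphere r) where
  one_smul x := Subtype.ext (act_one x.1)
  mul_smul g g' x := Subtype.ext (act_mul _ _ x.1)

theorem v3_Cstd (r : ℕ) :
    2 * (Nat.card ↥(Cstd r)).factorization 3 ≤ r * (r - 1) := by
  induction r with
  | zero =>
    haveI : Subsingleton (Cfsg.isometryGroup (ZMod 3) ⇑(sqQ 0)) :=
      ⟨fun a b => iso_ext fun v => funext fun i => isEmptyElim i⟩
    rw [Nat.card_unique]; simp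
  | succ r ih =>
    classical
    let p : Sphere (r + 1) := ⟨Pi.single (.inl 0) 1, by rw [sqQ_apply]; simp [Pi.single_apply]⟩
    have horb : MulAction.orbit (Cstd (r + 1)) p = Set.univ := by
      refine Set.eq_univ_of_forall fun x => ?_
      obtain ⟨g, hg, hgx⟩ := Cstd_transitive x.2
      exact ⟨⟨g, hg⟩, Subtype.ext hgx⟩
    have hstab : MulAction.stabilizer (Cstd (r + 1)) p = stab r := by
      ext g
      exact ⟨fun h => congrArg Subtype.val h, fun h => Subtype.ext h⟩
    have h1 := Subgroup.card_mul_index (MulAction.stabilizer (Cstd (r + 1)) p)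
    rw [MulAction.index_stabilizer, horb, Set.ncard_univ, hstab,
      show Nat.card (Sphere (r + 1)) = NN (r + 1) 1 from rfl] at h1
    have hdvd : Nat.card (stab r) ∣ Nat.card (Cstd r) :=
      Subgroup.card_dvd_of_injective (resHom r)
        fun g g' h => resIso_injective (congrArg Subtype.val h)
    have hN0 : NN (r + 1) 1 ≠ 0 := by
      haveI : Nonempty (Sphere (r + 1)) := ⟨p⟩
      exact (Nat.card_pos (α := Sphere (r + 1))).ne'
    rw [← h1, Nat.factorization_mul Nat.card_pos.ne' hN0, Finsupp.add_apply, v3_NN]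
    have := (Nat.factorization_le_iff_dvd Nat.card_pos.ne' Nat.card_pos.ne').2 hdvd 3
    rw [Nat.add_sub_cancel]
    rcases r with _ | r <;> simp at * <;> nlinarith

/-! ### Two reflections -/

/-- The 3-part of the orthogonal group of a sum of squares in twice an odd dimension. -/
theorem v3_O_sq (j : ℕ) (hj : Even j) :
    (j + 1) * j ≤ (Nat.card ↥(Cfsg.isometryGroup (ZMod 3) ⇑(sqQ (j + 1)))).factorization 3 := by
  have hab : ∀ z₁ z₂ : ZMod 3, z₁ ^ 2 + 0 * z₁ * z₂ + 1 * z₂ ^ 2 = 0 → z₁ = 0 ∧ z₂ = 0 := by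
    decide
  obtain ⟨φ⟩ := SylowAb.exists_iso (by decide) (sqQ_nondeg (j + 1))
    (Classical.OrthForms.minQ_nondeg j hab) (by simp; ring) (by
      refine ⟨1, ?_⟩
      rw [sqQ, SylowAb.discr_dQ, SylowAb.discr_min, hj.neg_one_pow, Finset.prod_const,
        Finset.card_univ, Fintype.card_sum, Fintype.card_fin, ← two_mul, pow_mul]
      rw [show (2 * 1 : ZMod 3) ^ 2 = 1 by decide, one_pow]
      decide)
  obtain ⟨e⟩ := S0306.result (F := ZMod 3) (q := 3) (ZMod.card 3) 0 1 hab
  have h0 : Nat.card (Cfsg.isometryGroup (ZMod 3) ⇑(Classical.OrthForms.minQ (ZMod 3) 0 0 1)) =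
      2 * (3 + 1) := by
    rw [Classical.OrthForms.minQ_eq, Nat.card_congr e.toEquiv, DihedralGroup.nat_card]
  rw [Nat.card_congr φ.toEquiv, Classical.OrthForms.natCard_O_min (ZMod.card 3) hab h0 j]
  have hd : 3 ^ ((j + 1) * j) ∣ 2 * 3 ^ ((j + 1) * j) * (3 ^ (j + 1) + 1) *
      ∏ i ∈ Finset.range j, (3 ^ (2 * (i + 1)) - 1) :=
    ((dvd_mul_left _ _).mul_right _).mul_right _
  refine (Nat.Prime.pow_dvd_iff_le_factorization Nat.prime_three ?_).1 hd
  refine mul_ne_zero (mul_ne_zero (mul_ne_zero two_ne_zero (pow_ne_zero _ (by norm_num))) (by omega)) ?_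
  exact Finset.prod_ne_zero_iff.2 fun i _ =>
    Nat.sub_ne_zero_of_lt (Nat.one_lt_pow (by omega) (by norm_num))

/-- extension of an isometry of the last planes -/
noncomputable def extSq {r : ℕ} (g : Cfsg.isometryGroup (ZMod 3) ⇑(sqQ r)) :
    (Fin (r + 1) ⊕ Fin (r + 1) → ZMod 3) →ₗ[ZMod 3] (Fin (r + 1) ⊕ Fin (r + 1) → ZMod 3) where
  toFun v := Function.extend (sh r) (act g (v ∘ sh r)) v
  map_add' v v' := by
    funext i
    by_cases hi : ∃ j, sh r j = i
    · obtain ⟨j, rfl⟩ := hi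
      simp [(sh_injective r).extend_apply,
        show (v + v') ∘ sh r = v ∘ sh r + v' ∘ sh r from rfl]
    · simp [Function.extend_apply' _ _ _ hi]
  map_smul' a v := by
    funext i
    by_cases hi : ∃ j, sh r j = i
    · obtain ⟨j, rfl⟩ := hi
      simp [(sh_injective r).extend_apply, show (a • v) ∘ sh r = a • (v ∘ sh r) from rfl]
    · simp [Function.extend_apply' _ _ _ hi]

theorem extSq_coord {r : ℕ} (g : Cfsg.isometryGroup (ZMod 3) ⇑(sqQ r))
    (v : Fin (r + 1) ⊕ Fin (r + 1) → ZMod 3) :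
    extSq g v (.inl 0) = v (.inl 0) ∧ extSq g v (.inr 0) = v (.inr 0) ∧
      extSq g v ∘ sh r = act g (v ∘ sh r) :=
  ⟨Function.extend_apply' _ _ _ (not_sh_zero r).1, Function.extend_apply' _ _ _ (not_sh_zero r).2,
    funext fun j => (sh_injective r).extend_apply _ _ j⟩

theorem extSq_comp {r : ℕ} (g g' : Cfsg.isometryGroup (ZMod 3) ⇑(sqQ r))
    (v : Fin (r + 1) ⊕ Fin (r + 1) → ZMod 3) : extSq g (extSq g' v) = extSq (g * g') v := by
  refine vec_ext ?_ ?_ ?_
  · rw [(extSq_coord _ _).1, (extSq_coord _ _).1, (extSq_coord _ _).1]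
  · rw [(extSq_coord _ _).2.1, (extSq_coord _ _).2.1, (extSq_coord _ _).2.1]
  · rw [(extSq_coord _ _).2.2, (extSq_coord _ _).2.2, (extSq_coord _ _).2.2, act_mul]

theorem extSq_one {r : ℕ} (v : Fin (r + 1) ⊕ Fin (r + 1) → ZMod 3) :
    extSq (1 : Cfsg.isometryGroup (ZMod 3) ⇑(sqQ r)) v = v :=
  vec_ext (extSq_coord _ v).1 (extSq_coord _ v).2.1 (by rw [(extSq_coord _ v).2.2, act_one])

/-- the extension as an isometry -/
noncomputable def extSqIso {r : ℕ} (g : Cfsg.isometryGroup (ZMod 3) ⇑(sqQ r)) :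
    Cfsg.isometryGroup (ZMod 3) ⇑(sqQ (r + 1)) :=
  isoOfEquiv _ (LinearEquiv.ofLinear (extSq g) (extSq g⁻¹)
    (LinearMap.ext fun x => by simp [extSq_comp, extSq_one])
    (LinearMap.ext fun x => by simp [extSq_comp, extSq_one])) fun x => by
      show sqQ (r + 1) (extSq g x) = _
      rw [sqQ_split, sqQ_split, (extSq_coord g x).1, (extSq_coord g x).2.1, (extSq_coord g x).2.2,
        act_map]

theorem act_extSqIso {r : ℕ} (g : Cfsg.isometryGroup (ZMod 3) ⇑(sqQ r))
    (x : Fin (r + 1) ⊕ Fin (r + 1) → ZMod 3) : act (extSqIso g) x = extSq g x := by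
  rw [act_apply]; exact isoOfEquiv_mulVec _ _ _ x

theorem card_dvd_two_reflections (r : ℕ) :
    Nat.card ↥(Cfsg.isometryGroup (ZMod 3) ⇑(sqQ r)) ∣
      Nat.card ↥(Subgroup.centralizer
        ({reflect (sqQ (r + 1)) (Pi.single (.inl 0) 1) *
          reflect (sqQ (r + 1)) (Pi.single (.inr 0) 1)} :
          Set ↥(Cfsg.isometryGroup (ZMod 3) ⇑(sqQ (r + 1))))) := by
  have hfix : ∀ (g : Cfsg.isometryGroup (ZMod 3) ⇑(sqQ r)) (a : Fin (r + 1) ⊕ Fin (r + 1)),
      (a = .inl 0 ∨ a = .inr 0) →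
        Commute (extSqIso g) (reflect (sqQ (r + 1)) (Pi.single a 1)) := by
    intro g a ha
    have h1 : act (extSqIso g) (Pi.single a 1) = Pi.single a 1 := by
      rw [act_extSqIso]
      refine vec_ext ?_ ?_ ?_
      · rw [(extSq_coord _ _).1]
      · rw [(extSq_coord _ _).2.1]
      · have h0 : (Pi.single a (1 : ZMod 3) : Fin (r + 1) ⊕ Fin (r + 1) → ZMod 3) ∘ sh r = 0 := by
          funext i
          rcases ha with rfl | rfl <;> rcases i with i | i <;>
            simp [sh, Fin.succ_ne_zero]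
        rw [(extSq_coord _ _).2.2, h0, map_zero]
    have h2 := Forms.Spinor.reflect_conj (extSqIso g) (Pi.single a (1 : ZMod 3))
    rw [h1] at h2
    exact mul_inv_eq_iff_eq_mul.1 h2
  let φ : ↥(Cfsg.isometryGroup (ZMod 3) ⇑(sqQ r)) →* ↥(Subgroup.centralizer
      ({reflect (sqQ (r + 1)) (Pi.single (.inl 0) 1) *
        reflect (sqQ (r + 1)) (Pi.single (.inr 0) 1)} :
        Set ↥(Cfsg.isometryGroup (ZMod 3) ⇑(sqQ (r + 1))))) :=
    MonoidHom.mk' (fun g => ⟨extSqIso g, Subgroup.mem_centralizer_singleton_iff.2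
      ((hfix g _ (Or.inl rfl)).mul_right (hfix g _ (Or.inr rfl))).eq⟩)
      fun g g' => Subtype.ext (iso_ext fun v => by
        rw [← act_apply, ← act_apply, Subgroup.coe_mul, act_mul, act_extSqIso, act_extSqIso,
          act_extSqIso, extSq_comp])
  refine Subgroup.card_dvd_of_injective φ ?_
  intro g g' h
  have h1 : extSqIso g = extSqIso g' := congrArg Subtype.val h
  refine iso_ext fun x => ?_
  rw [← act_apply, ← act_apply]
  have := congrArg (fun γ => act γ (up r x) ∘ sh r) h1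
  simpa [act_extSqIso, (extSq_coord _ _).2.2, up_comp] using this

end Cfsg.Agent.Fischer.Disc
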