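import Cfsg.Agent.Lib.Fischer.Disc.Middle
import Cfsg.Agent.Lib.Fischer.Disc.OThreeCount
import Cfsg.Agent.Lib.ThreeTransp.Ortho3
import Cfsg.Agent.Lib.Characters.Burnside

/-!
Reflection groups over three elements: small dimensions, the centre, the shape of an involution
commuting with no reflection.
-/

set_option autoImplicit false

namespace Cfsg.Agent.Fischer.Disc

open Matrix Module
open Cfsg.Agent.Forms.QuadStd Cfsg.Agent.Forms.Reflections

/-- the reflection group modulo its centre -/
abbrev RM {n : ℕ} (Q : QuadraticForm (ZMod 3) (Fin n → ZMod 3)) (c : ZMod 3) : Type :=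
  ↥(Cfsg.reflectionSubgroup (⇑Q) c) ⧸ Subgroup.center ↥(Cfsg.reflectionSubgroup (⇑Q) c)

/-- its class -/
def RE {n : ℕ} (Q : QuadraticForm (ZMod 3) (Fin n → ZMod 3)) (c : ZMod 3) : Set (RM Q c) :=
  (QuotientGroup.mk : ↥(Cfsg.reflectionSubgroup (⇑Q) c) → _) ''
    {g : ↥(Cfsg.reflectionSubgroup (⇑Q) c) |
      (g : ↥(Cfsg.isometryGroup (ZMod 3) (⇑Q))) ∈ Cfsg.reflectionsOfNorm (⇑Q) c}

theorem solvable_RM {n : ℕ} (Q : QuadraticForm (ZMod 3) (Fin n → ZMod 3)) (c : ZMod 3)
    [Group.IsSolvable ↥(Cfsg.isometryGroup (ZMod 3) ⇑Q)] :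
    Group.IsSolvable ↥(commutator (RM Q c)) := by
  haveI : Group.IsSolvable ↥(Cfsg.reflectionSubgroup (⇑Q) c) :=
    Group.isSolvable_of_isSolvable_injective (Subgroup.subtype_injective _)
  haveI : Group.IsSolvable (RM Q c) :=
    Group.isSolvable_of_surjective (QuotientGroup.mk'_surjective
      (Subgroup.center ↥(Cfsg.reflectionSubgroup (⇑Q) c)))
  exact Group.isSolvable_of_isSolvable_injective (Subgroup.subtype_injective _)

/-! ### Transport from a frame -/

section Scale

variable {ι κ : Type} [Fintype ι] [DecidableEq ι] [Fintype κ] [DecidableEq κ]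
  {P : QuadraticForm (ZMod 3) (κ → ZMod 3)} {Q : QuadraticForm (ZMod 3) (ι → ZMod 3)}
  {c : ZMod 3}

theorem scale_eq (hc : c ≠ 0) (R : (κ → ZMod 3) → ZMod 3) :
    Cfsg.isometryGroup (ZMod 3) R = Cfsg.isometryGroup (ZMod 3) (fun x => c * R x) := by
  ext g
  simp only [Cfsg.isometryGroup, Cfsg.preserving]
  exact ⟨fun h u v => congrArg (c * ·) (h u v), fun h u v => mul_left_cancel₀ hc (h u v)⟩

/-- isometry groups along a similitude -/
noncomputable def scaleIso (hc : c ≠ 0) (e : (κ → ZMod 3) ≃ₗ[ZMod 3] (ι → ZMod 3))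
    (he : ∀ x, Q (e x) = c * P x) :
    ↥(Cfsg.isometryGroup (ZMod 3) ⇑P) ≃* ↥(Cfsg.isometryGroup (ZMod 3) ⇑Q) :=
  (MulEquiv.subgroupCongr (scale_eq hc ⇑P)).trans (SylowAb.isoCongr e he)

theorem act_scaleIso (hc : c ≠ 0) (e : (κ → ZMod 3) ≃ₗ[ZMod 3] (ι → ZMod 3))
    (he : ∀ x, Q (e x) = c * P x) (g : ↥(Cfsg.isometryGroup (ZMod 3) ⇑P)) (x : κ → ZMod 3) :
    act (scaleIso hc e he g) (e x) = e (act g x) := by
  rw [act_apply, act_apply]
  simp only [scaleIso, MulEquiv.trans_apply, SylowAb.isoCongr, MulEquiv.coe_mk, Equiv.coe_fn_mk]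
  rw [isoOfEquiv_mulVec]
  show e (_ *ᵥ e.symm (e x)) = _
  rw [LinearEquiv.symm_apply_apply]
  rfl

theorem scaleIso_reflect (hc : c ≠ 0) (e : (κ → ZMod 3) ≃ₗ[ZMod 3] (ι → ZMod 3))
    (he : ∀ x, Q (e x) = c * P x) (v : κ → ZMod 3) :
    scaleIso hc e he (reflect P v) = reflect Q (e v) := by
  refine iso_ext fun y => ?_
  obtain ⟨x, rfl⟩ := e.surjective y
  rw [← act_apply, ← act_apply, act_scaleIso, act_reflect, act_reflect, map_sub, map_smul, he]
  congr 2
  have hp : QuadraticMap.polar Q (e v) (e x) = c * QuadraticMap.polar P v x := by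
    simp only [QuadraticMap.polar, ← map_add, he]
    ring
  rw [hp, mul_inv, mul_comm c⁻¹, mul_assoc, ← mul_assoc c⁻¹, inv_mul_cancel₀ hc, one_mul]

end Scale

/-! ### Small dimensions -/

theorem solvable_le_two {n : ℕ} (hn : n ≤ 2) (Q : (Fin n → ZMod 3) → ZMod 3) :
    Group.IsSolvable ↥(Cfsg.isometryGroup (ZMod 3) Q) := by
  haveI : Group.IsSolvable (GL (Fin n) (ZMod 3)) := by
    interval_cases n
    · refine Characters.burnside_pa_qb (p := 2) (q := 3) (a := 0) (b := 0) Nat.prime_two
        Nat.prime_three ?_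
      rw [Matrix.card_GL_field, ZMod.card]; decide
    · refine Characters.burnside_pa_qb (p := 2) (q := 3) (a := 1) (b := 0) Nat.prime_two
        Nat.prime_three ?_
      rw [Matrix.card_GL_field, ZMod.card]; decide
    · refine Characters.burnside_pa_qb (p := 2) (q := 3) (a := 4) (b := 1) Nat.prime_two
        Nat.prime_three ?_
      rw [Matrix.card_GL_field, ZMod.card]; decide
  exact Group.isSolvable_of_isSolvable_injective (Subgroup.subtype_injective _)

theorem solvable_three (Q : QuadraticForm (ZMod 3) (Fin 3 → ZMod 3))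
    (hQ : (QuadraticMap.polarBilin Q).Nondegenerate) :
    Group.IsSolvable ↥(Cfsg.isometryGroup (ZMod 3) ⇑Q) := by
  refine Characters.burnside_pa_qb (p := 2) (q := 3) (a := 4) (b := 1) Nat.prime_two
    Nat.prime_three ?_
  have hodd : Nat.card (Cfsg.isometryGroup (ZMod 3) ⇑(Classical.OrthForms.oddQ (ZMod 3) 1)) = 48 := by
    rw [Classical.OrthForms.natCard_O_odd (ZMod.card 3) (by decide) 1]
    rfl
  have hn := Classical.OrthForms.oddQ_nondeg (F := ZMod 3) (by decide) 1
  by_cases hd : IsSquare (SylowAb.discr Q * SylowAb.discr (Classical.OrthForms.oddQ (ZMod 3) 1))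
  · obtain ⟨φ⟩ := SylowAb.exists_iso (by decide) hQ hn (by simp) hd
    rw [Nat.card_congr φ.toEquiv, hodd]
    norm_num
  · have hQ' : (QuadraticMap.polarBilin (-Q)).Nondegenerate := by
      have key : ∀ x y, QuadraticMap.polar (⇑(-Q)) x y = -QuadraticMap.polar Q x y := fun x y => by
        simp only [QuadraticMap.polar, QuadraticMap.neg_apply]
        ring
      refine ⟨fun x hx => hQ.1 x fun y => ?_, fun x hx => hQ.2 x fun y => ?_⟩
      · have := hx y
        rw [QuadraticMap.polarBilin_apply_apply, key, neg_eq_zero] at this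
        exact this
      · have := hx y
        rw [QuadraticMap.polarBilin_apply_apply, key, neg_eq_zero] at this
        exact this
    have hdet : SylowAb.discr (-Q) = -SylowAb.discr Q := by
      rw [SylowAb.discr, SylowAb.discr, show Forms.Disc.gram (polB (-Q)) (Pi.basisFun (ZMod 3) (Fin 3))
        = -Forms.Disc.gram (polB Q) (Pi.basisFun (ZMod 3) (Fin 3)) by
          ext i j
          simp only [Forms.Disc.gram, Matrix.of_apply, Matrix.neg_apply, polB_apply,
            QuadraticMap.polar, QuadraticMap.neg_apply]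
          ring, Matrix.det_neg, Fintype.card_fin]
      ring
    obtain ⟨φ⟩ := SylowAb.exists_iso (by decide) hQ' hn (by simp) (by
      rw [hdet]
      revert hd
      generalize SylowAb.discr Q = a
      generalize SylowAb.discr (Classical.OrthForms.oddQ (ZMod 3) 1) = b
      revert a b
      unfold IsSquare
      decide)
    have he : Cfsg.isometryGroup (ZMod 3) ⇑Q = Cfsg.isometryGroup (ZMod 3) ⇑(-Q) := by
      rw [scale_eq (c := -1) (by decide) ⇑Q]
      congr 1
      funext x
      simp
    rw [he, Nat.card_congr φ.toEquiv, hodd]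
    norm_num

/-! ### Vectors -/

section General

variable {n : ℕ} {Q : QuadraticForm (ZMod 3) (Fin n → ZMod 3)}
variable (hQ : (QuadraticMap.polarBilin Q).Nondegenerate) {c : ZMod 3} (hc : c ≠ 0)
include hQ hc

/-- Every value occurs orthogonally to two orthogonal anisotropic vectors. -/
theorem exists_val_perp (hn : 4 ≤ n) {u w : Fin n → ZMod 3} (hu : Q u ≠ 0) (hw : Q w ≠ 0)
    (huw : QuadraticMap.polar Q u w = 0) :
    ∃ t, Q t = c ∧ QuadraticMap.polar Q u t = 0 ∧ QuadraticMap.polar Q w t = 0 := by
  have two : (2 : ZMod 3) ≠ 0 := by decide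
  set W := LinearMap.ker (polB Q u) ⊓ LinearMap.ker (polB Q w) with hW
  have hWm : ∀ x, x ∈ W ↔ QuadraticMap.polar Q u x = 0 ∧ QuadraticMap.polar Q w x = 0 := fun x => by
    simp [W, polB_apply]
  have hd : 2 ≤ finrank (ZMod 3) W := by
    have h1 := finrank_inf_ker_ge hQ ⊤ u
    rw [top_inf_eq, finrank_top, Module.finrank_fintype_fun_eq_card, Fintype.card_fin] at h1
    have h2 := finrank_inf_ker_ge hQ (LinearMap.ker (polB Q u)) w
    rw [← hW] at h2
    omega
  have hnd : Forms.Bases.NondegOn (polB Q) W := by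
    intro x hx hperp
    obtain ⟨hxu, hxw⟩ := (hWm x).1 hx
    refine hQ.1 x fun y => ?_
    set a := (2 * Q u)⁻¹ * QuadraticMap.polar Q u y
    set b := (2 * Q w)⁻¹ * QuadraticMap.polar Q w y
    have hy : y - a • u - b • w ∈ W := by
      rw [hWm]
      constructor
      · rw [QuadraticMap.polar_sub_right, QuadraticMap.polar_sub_right,
          QuadraticMap.polar_smul_right, QuadraticMap.polar_smul_right, huw,
          QuadraticMap.polar_self, smul_zero, sub_zero, nsmul_eq_mul, smul_eq_mul]
        push_cast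
        simp only [a]
        field_simp
        ring
      · rw [QuadraticMap.polar_sub_right, QuadraticMap.polar_sub_right,
          QuadraticMap.polar_smul_right, QuadraticMap.polar_smul_right,
          QuadraticMap.polar_comm _ w u, huw,
          QuadraticMap.polar_self, smul_zero, sub_zero, nsmul_eq_mul, smul_eq_mul]
        push_cast
        simp only [b]
        field_simp
        ring
    have := hperp _ hy
    rw [polB_apply, QuadraticMap.polar_sub_right, QuadraticMap.polar_sub_right,
      QuadraticMap.polar_smul_right, QuadraticMap.polar_smul_right,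
      QuadraticMap.polar_comm _ x u, QuadraticMap.polar_comm _ x w, hxu, hxw, smul_zero, smul_zero,
      sub_zero, sub_zero] at this
    exact this
  obtain ⟨t, ht, htt, -⟩ := Forms.Bases.exists_symm_unit two (polB Q)
    ⟨fun x y => QuadraticMap.polar_comm _ x y⟩ W hnd hd (2 * c) (mul_ne_zero two hc)
  refine ⟨t, ?_, ((hWm t).1 ht).1, ((hWm t).1 ht).2⟩
  rw [polB_apply, QuadraticMap.polar_self, nsmul_eq_mul] at htt
  push_cast at htt
  exact mul_left_cancel₀ two htt

omit hc in
/-- The vectors of value `c` have no common perpendicular. -/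
theorem eq_zero_of_perp (hn : 4 ≤ n) (hc : c ≠ 0) {x : Fin n → ZMod 3}
    (hx : ∀ v, Q v = c → QuadraticMap.polar Q x v = 0) : x = 0 := by
  have two : (2 : ZMod 3) ≠ 0 := by decide
  by_contra hx0
  obtain ⟨y, hy⟩ : ∃ y, QuadraticMap.polar Q x y ≠ 0 := by
    by_contra! h
    exact hx0 (hQ.1 x h)
  by_cases hQx : Q x = 0
  · set B := QuadraticMap.polar Q x y with hB
    set a := (c - Q y) * B⁻¹ with ha
    refine hy ?_
    have hv : Q (a • x + y) = c := by
      rw [QuadraticMap.map_add Q, QuadraticMap.map_smul, hQx, smul_zero, zero_add,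
        QuadraticMap.polar_smul_left, ← hB, smul_eq_mul, ha, mul_assoc, inv_mul_cancel₀ hy, mul_one]
      ring
    have h0 := hx _ hv
    rwa [QuadraticMap.polar_add_right Q, QuadraticMap.polar_smul_right, QuadraticMap.polar_self,
      hQx, smul_zero, smul_zero, zero_add] at h0
  · by_cases hxc : Q x = c
    · have h0 := hx x hxc
      rw [QuadraticMap.polar_self, hxc, nsmul_eq_mul] at h0
      push_cast at h0
      exact mul_ne_zero two hc h0
    · -- complete `x` by a perpendicular vector
      have hQx' : c - Q x ≠ 0 := fun e => hxc (sub_eq_zero.1 e).symm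
      set z := y - ((2 * Q x)⁻¹ * QuadraticMap.polar Q x y) • x
      obtain ⟨w, hw, hxw⟩ : ∃ w, Q w ≠ 0 ∧ QuadraticMap.polar Q x w = 0 := by
        by_contra! hcon
        set W := LinearMap.ker (polB Q x) with hW
        have hiso : ∀ p ∈ W, Q p = 0 := fun p hp => by
          by_contra hQp
          exact hcon p hQp (by simpa [hW, polB_apply] using hp)
        have h1 := finrank_inf_ker_ge hQ ⊤ x
        rw [top_inf_eq, finrank_top, Module.finrank_fintype_fun_eq_card, Fintype.card_fin, ← hW] at h1
        have hle : W ≤ (polB Q).orthogonal W := fun p hp => mem_orth.2 fun q hq => by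
          simp [QuadraticMap.polar, hiso _ (W.add_mem hq hp), hiso _ hp, hiso _ hq]
        have h2 := Submodule.finrank_mono hle
        rw [finrank_orth hQ, Fintype.card_fin] at h2
        omega
      obtain ⟨t, ht, htx, -⟩ := exists_val_perp hQ hQx' hn hQx hw hxw
      have hv : Q (x + t) = c := by
        rw [QuadraticMap.map_add Q, ht, htx]; ring
      have h0 := hx _ hv
      rw [QuadraticMap.polar_add_right Q, htx, QuadraticMap.polar_self, add_zero, nsmul_eq_mul] at h0
      push_cast at h0
      exact mul_ne_zero two hQx h0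

/-- The centre of the reflection subgroup consists of scalars. -/
theorem center_scalar (hn : 4 ≤ n) {z : ↥(Cfsg.reflectionSubgroup (⇑Q) c)}
    (hz : z ∈ Subgroup.center ↥(Cfsg.reflectionSubgroup (⇑Q) c)) :
    (∀ x, act (z : Cfsg.isometryGroup (ZMod 3) ⇑Q) x = x) ∨
      ∀ x, act (z : Cfsg.isometryGroup (ZMod 3) ⇑Q) x = -x := by
  set γ := (z : Cfsg.isometryGroup (ZMod 3) ⇑Q) with hγ
  have two : (2 : ZMod 3) ≠ 0 := by decide
  have hsign : ∀ v, Q v = c → act γ v = v ∨ act γ v = -v := by
    intro v hv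
    have h1 := congrArg Subtype.val
      (Subgroup.mem_center_iff.1 hz ⟨reflect Q v, ThreeTransp.Ortho3.reflect_mem hv⟩)
    have h2 := congrArg (fun δ => act δ v) h1
    simp only [Subgroup.coe_mul, act_mul, act_reflect, hv, QuadraticMap.polar_self, ← hγ] at h2
    rw [map_sub, map_smul, nsmul_eq_mul] at h2
    push_cast at h2
    rw [show c⁻¹ * (2 * c) = 2 by field_simp] at h2
    have h3 : (c⁻¹ * QuadraticMap.polar Q v (act γ v)) • v = (2 : ZMod 3) • act γ v :=
      (sub_right_injective h2)
    have h4 : act γ v = ((2 : ZMod 3)⁻¹ * (c⁻¹ * QuadraticMap.polar Q v (act γ v))) • v := by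
      rw [← smul_smul, h3, smul_smul, inv_mul_cancel₀ two, one_smul]
    set s := (2 : ZMod 3)⁻¹ * (c⁻¹ * QuadraticMap.polar Q v (act γ v))
    have h5 := act_map γ v
    rw [h4, QuadraticMap.map_smul, hv, smul_eq_mul] at h5
    have : ∀ s c : ZMod 3, c ≠ 0 → s * s * c = c → s = 1 ∨ s = -1 := by decide
    rcases this s c hc h5 with e | e
    · left; rw [h4, e, one_smul]
    · right; rw [h4, e, neg_one_smul]
  have hmix : ∀ u w, Q u = c → Q w = c → act γ u = u → act γ w = -w → False := by
    intro u w hu hw eu ew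
    have huw : QuadraticMap.polar Q u w = 0 := by
      have := act_polar γ u w
      rw [eu, ew, QuadraticMap.polar_neg_right] at this
      have key : ∀ a : ZMod 3, -a = a → a = 0 := by decide
      exact key _ this
    obtain ⟨t, ht, htu, htw⟩ := exists_val_perp hQ (c := -c) (neg_ne_zero.2 hc) hn
      (by rw [hu]; exact hc) (by rw [hw]; exact hc) huw
    have hy : Q (u + w + t) = c := by
      rw [QuadraticMap.map_add Q, QuadraticMap.map_add Q, hu, hw, ht, huw,
        QuadraticMap.polar_add_left Q, htu, htw]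
      ring
    have hbu : QuadraticMap.polar Q u (u + w + t) = 2 * c := by
      rw [QuadraticMap.polar_add_right Q, QuadraticMap.polar_add_right Q, huw, htu,
        QuadraticMap.polar_self, hu, nsmul_eq_mul]
      push_cast; ring
    have hbw : QuadraticMap.polar Q w (u + w + t) = 2 * c := by
      rw [QuadraticMap.polar_add_right Q, QuadraticMap.polar_add_right Q,
        QuadraticMap.polar_comm _ w u, huw, htw, QuadraticMap.polar_self, hw, nsmul_eq_mul]
      push_cast; ring
    have key : ∀ a : ZMod 3, -a = a → a = 0 := by decide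
    rcases hsign _ hy with e | e
    · have := act_polar γ w (u + w + t)
      rw [ew, e, QuadraticMap.polar_neg_left, hbw] at this
      exact mul_ne_zero two hc (key _ this)
    · have := act_polar γ u (u + w + t)
      rw [eu, e, QuadraticMap.polar_neg_right, hbu] at this
      exact mul_ne_zero two hc (key _ this)
  by_cases hplus : ∃ u, Q u = c ∧ act γ u = u
  · obtain ⟨u, hu, eu⟩ := hplus
    left
    intro x
    refine sub_eq_zero.1 (eq_zero_of_perp hQ hn hc fun v hv => ?_)
    have hv' : act γ v = v := (hsign v hv).resolve_right fun e => hmix u v hu hv eu e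
    rw [QuadraticMap.polar_sub_left, sub_eq_zero]
    conv_lhs => rw [← hv']
    exact act_polar γ x v
  · push Not at hplus
    right
    intro x
    refine eq_neg_of_add_eq_zero_left (eq_zero_of_perp hQ hn hc fun v hv => ?_)
    have hv' : act γ v = -v := (hsign v hv).resolve_left (hplus v hv)
    have h1 := act_polar γ x v
    rw [hv', QuadraticMap.polar_neg_right] at h1
    rw [QuadraticMap.polar_add_left Q, ← h1, add_neg_cancel]

/-- An involution of the derived group commuting with no reflection lifts to a quarter turn. -/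
theorem exists_lift (hn : 4 ≤ n) {z : RM Q c} (hz : Fpf (RE Q c) z) :
    ∃ g : ↥(Cfsg.reflectionSubgroup (⇑Q) c), g ∈ commutator ↥(Cfsg.reflectionSubgroup (⇑Q) c) ∧
      (g : RM Q c) = z ∧
      ∀ x, act (g : Cfsg.isometryGroup (ZMod 3) ⇑Q) (act (g : Cfsg.isometryGroup (ZMod 3) ⇑Q) x) = -x := by
  set π := QuotientGroup.mk' (Subgroup.center ↥(Cfsg.reflectionSubgroup (⇑Q) c)) with hπ
  have hmap : (commutator ↥(Cfsg.reflectionSubgroup (⇑Q) c)).map π = commutator (RM Q c) := by
    rw [commutator_def, Subgroup.map_commutator, Subgroup.map_top_of_surjective _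
      (QuotientGroup.mk'_surjective _), ← commutator_def]
  obtain ⟨g, hgc, hgz⟩ := (hmap.symm ▸ hz.mem :
    z ∈ (commutator ↥(Cfsg.reflectionSubgroup (⇑Q) c)).map π)
  refine ⟨g, hgc, hgz, ?_⟩
  set γ := (g : Cfsg.isometryGroup (ZMod 3) ⇑Q) with hγ
  have hnc : ∀ v, Q v = c → act γ v ≠ v ∧ act γ v ≠ -v := by
    intro v hv
    have key : act γ v = v ∨ act γ v = -v → False := by
      intro he
      refine hz.free (π ⟨reflect Q v, ThreeTransp.Ortho3.reflect_mem hv⟩)
        ⟨_, ThreeTransp.Ortho3.mem_norm.2 ⟨v, hv, rfl⟩, rfl⟩ ?_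
      rw [← hgz]
      refine Commute.map ?_ π
      have h2 := Forms.Spinor.reflect_conj γ v
      have h3 : reflect Q (act γ v) = reflect Q v := by
        rcases he with e | e <;> rw [e]
        rw [← neg_one_smul (ZMod 3) v, Forms.Spinor.reflect_smul v (by decide)]
      rw [h3] at h2
      exact Subtype.ext (mul_inv_eq_iff_eq_mul.1 h2)
    exact ⟨fun e => key (Or.inl e), fun e => key (Or.inr e)⟩
  have hgg : g * g ∈ Subgroup.center ↥(Cfsg.reflectionSubgroup (⇑Q) c) := by
    rw [← QuotientGroup.eq_one_iff]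
    show π (g * g) = 1
    rw [map_mul, hgz, hz.sq]
  rcases center_scalar hQ hc hn hgg with hone | hneg
  swap
  · intro x; have := hneg x; rwa [Subgroup.coe_mul, act_mul] at this
  exfalso
  have hinv : ∀ x, act γ (act γ x) = x := fun x => by
    have := hone x; rwa [Subgroup.coe_mul, act_mul] at this
  -- an eigenspace of dimension two represents `c`
  have two : (2 : ZMod 3) ≠ 0 := by decide
  have main : ∀ s : ZMod 3, s = 1 ∨ s = -1 →
      2 ≤ finrank (ZMod 3) (LinearMap.ker (act γ - s • LinearMap.id)) → False := by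
    intro s hs hdim
    have hs2 : s * s = 1 := by rcases hs with rfl | rfl <;> decide
    have hmem : ∀ x, x ∈ LinearMap.ker (act γ - s • LinearMap.id) ↔ act γ x = s • x := fun x => by
      rw [LinearMap.mem_ker, LinearMap.sub_apply, sub_eq_zero]; rfl
    have hnd : Forms.Bases.NondegOn (polB Q) (LinearMap.ker (act γ - s • LinearMap.id)) := by
      intro x hx hperp
      rw [hmem] at hx
      refine hQ.1 x fun y => ?_
      have hy : y + s • act γ y ∈ LinearMap.ker (act γ - s • LinearMap.id) := by
        rw [hmem, map_add, map_smul, hinv, smul_add, smul_smul, hs2, one_smul, add_comm]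
      have h0 := hperp _ hy
      have h1 := act_polar γ x y
      rw [hx, QuadraticMap.polar_smul_left] at h1
      rw [polB_apply, QuadraticMap.polar_add_right Q, QuadraticMap.polar_smul_right,
        ← QuadraticMap.polar_smul_left] at h0
      rw [QuadraticMap.polarBilin_apply_apply]
      rw [QuadraticMap.polar_smul_left, h1] at h0
      rw [← two_mul] at h0
      exact (mul_eq_zero.1 h0).resolve_left two
    obtain ⟨t, ht, htt, -⟩ := Forms.Bases.exists_symm_unit two (polB Q)
      ⟨fun x y => QuadraticMap.polar_comm _ x y⟩ _ hnd hdim (2 * c) (mul_ne_zero two hc)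
    rw [polB_apply, QuadraticMap.polar_self, nsmul_eq_mul] at htt
    push_cast at htt
    have hv : Q t = c := mul_left_cancel₀ two htt
    rw [hmem] at ht
    rcases hs with rfl | rfl
    · exact (hnc t hv).1 (by rw [ht, one_smul])
    · exact (hnc t hv).2 (by rw [ht, neg_one_smul])
  have hsum : ∀ x, x ∈ LinearMap.ker (act γ - (1 : ZMod 3) • LinearMap.id) ⊔
      LinearMap.ker (act γ - (-1 : ZMod 3) • LinearMap.id) := by
    intro x
    refine Submodule.mem_sup.2 ⟨(-1 : ZMod 3) • (x + act γ x), ?_, (-1 : ZMod 3) • (x - act γ x),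
      ?_, ?_⟩
    · rw [LinearMap.mem_ker, LinearMap.sub_apply, map_smul, map_add, hinv, LinearMap.smul_apply,
        LinearMap.id_apply, one_smul, add_comm, sub_self]
    · rw [LinearMap.mem_ker, LinearMap.sub_apply, map_smul, map_sub, hinv, LinearMap.smul_apply,
        LinearMap.id_apply]
      module
    · funext i
      simp only [Pi.add_apply, Pi.smul_apply, Pi.sub_apply, smul_eq_mul]
      have h3 : (3 : ZMod 3) = 0 := by decide
      linear_combination (-(x i)) * h3
  have hle : n ≤ finrank (ZMod 3) (LinearMap.ker (act γ - (1 : ZMod 3) • LinearMap.id)) +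
      finrank (ZMod 3) (LinearMap.ker (act γ - (-1 : ZMod 3) • LinearMap.id)) := by
    have h1 := Submodule.finrank_add_le_finrank_add_finrank
      (LinearMap.ker (act γ - (1 : ZMod 3) • LinearMap.id))
      (LinearMap.ker (act γ - (-1 : ZMod 3) • LinearMap.id))
    rw [show LinearMap.ker (act γ - (1 : ZMod 3) • LinearMap.id) ⊔
      LinearMap.ker (act γ - (-1 : ZMod 3) • LinearMap.id) = ⊤ from eq_top_iff.2 fun x _ => hsum x,
      finrank_top, Module.finrank_fintype_fun_eq_card, Fintype.card_fin] at h1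
    exact h1
  by_cases h2 : 2 ≤ finrank (ZMod 3) (LinearMap.ker (act γ - (1 : ZMod 3) • LinearMap.id))
  · exact main 1 (Or.inl rfl) h2
  · exact main (-1) (Or.inr rfl) (by omega)

end General

/-! ### The character on the quarter turn -/

theorem extSq_reflect {r : ℕ} (x : Fin r ⊕ Fin r → ZMod 3) :
    extSqIso (reflect (sqQ r) x) = reflect (sqQ (r + 1)) (up r x) := by
  refine iso_ext fun v => ?_
  rw [← act_apply, ← act_apply, act_extSqIso, act_reflect]
  have hp : QuadraticMap.polar (sqQ (r + 1)) (up r x) v =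
      QuadraticMap.polar (sqQ r) x (v ∘ sh r) := by
    rw [sqQ_polar, sqQ_polar, Fintype.sum_sum_type, Fintype.sum_sum_type, Fin.sum_univ_succ,
      Fin.sum_univ_succ, (up_zero x).1, (up_zero x).2]
    simp only [zero_mul, zero_add]
    have h := up_comp x
    congr 2 <;> refine Finset.sum_congr rfl fun i _ => ?_
    · rw [← congrFun h (Sum.inl i)]; rfl
    · rw [← congrFun h (Sum.inr i)]; rfl
  have hq : sqQ (r + 1) (up r x) = sqQ r x := by
    rw [sqQ_split, (up_zero x).1, (up_zero x).2, up_comp]; simp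
  refine vec_ext ?_ ?_ ?_
  · rw [(extSq_coord _ _).1, Pi.sub_apply, Pi.smul_apply, (up_zero x).1, smul_zero, sub_zero]
  · rw [(extSq_coord _ _).2.1, Pi.sub_apply, Pi.smul_apply, (up_zero x).2, smul_zero, sub_zero]
  · rw [(extSq_coord _ _).2.2, act_reflect, hp, hq]
    funext i
    have := congrFun (up_comp x) i
    simp only [Function.comp_apply] at this
    simp [this]

theorem char_rot : ∀ (r : ℕ) (ψ : ↥(Cfsg.isometryGroup (ZMod 3) ⇑(sqQ r)) →* ℤˣ),
    (∀ x y, sqQ r x = 1 → sqQ r y = 2 → ψ (reflect (sqQ r) x) * ψ (reflect (sqQ r) y) = -1) →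
    ψ (rot r) = (-1) ^ r := by
  intro r
  induction r with
  | zero =>
    intro ψ _
    rw [show rot 0 = 1 from iso_ext fun v => funext fun i => isEmptyElim i, map_one, pow_zero]
  | succ r ih =>
    intro ψ hψ
    let ext : ↥(Cfsg.isometryGroup (ZMod 3) ⇑(sqQ r)) →* ↥(Cfsg.isometryGroup (ZMod 3) ⇑(sqQ (r + 1))) :=
      MonoidHom.mk' extSqIso fun g g' => iso_ext fun v => by
        rw [← act_apply, ← act_apply, act_mul, act_extSqIso, act_extSqIso, act_extSqIso, extSq_comp]
    have hq : ∀ x, sqQ (r + 1) (up r x) = sqQ r x := fun x => by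
      rw [sqQ_split, (up_zero x).1, (up_zero x).2, up_comp]; simp
    have h1 := ih (ψ.comp ext) fun x y hx hy => by
      show ψ (extSqIso _) * ψ (extSqIso _) = -1
      rw [extSq_reflect, extSq_reflect]
      exact hψ _ _ (by rw [hq, hx]) (by rw [hq, hy])
    set v : Fin (r + 1) ⊕ Fin (r + 1) → ZMod 3 := Pi.single (.inl 0) 1 with hv
    set w : Fin (r + 1) ⊕ Fin (r + 1) → ZMod 3 := Pi.single (.inl 0) 1 + Pi.single (.inr 0) 1 with hw
    have hQv : sqQ (r + 1) v = 1 := by rw [sqQ_apply]; simp [hv, Pi.single_apply]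
    have hQw : sqQ (r + 1) w = 2 := by
      rw [sqQ_apply, Fintype.sum_sum_type]; simp [hw, Pi.single_apply]; rfl
    have hsplit : rot (r + 1) = ext (rot r) * (reflect (sqQ (r + 1)) w * reflect (sqQ (r + 1)) v) := by
      refine iso_ext fun x => ?_
      rw [← act_apply, ← act_apply, act_rot, act_mul, act_mul]
      show _ = act (extSqIso (rot r)) _
      rw [act_extSqIso, act_reflect, act_reflect, hQv, hQw]
      have hpv : ∀ y, QuadraticMap.polar (sqQ (r + 1)) v y = 2 * y (.inl 0) := fun y => by
        rw [QuadraticMap.polar_comm]; exact (polar_first y).1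
      have hpw : ∀ y, QuadraticMap.polar (sqQ (r + 1)) w y = 2 * (y (.inl 0) + y (.inr 0)) := fun y => by
        rw [QuadraticMap.polar_comm, hw, QuadraticMap.polar_add_right, (polar_first y).1,
          (polar_first y).2]
        ring
      have h21 : (1 : ZMod 3)⁻¹ = 1 := inv_one
      have h22 : (2 : ZMod 3)⁻¹ = 2 := inv_eq_of_mul_eq_one_right (by decide)
      rw [hpv, hpw, h21, h22]
      refine vec_ext ?_ ?_ ?_
      · rw [(extSq_coord _ _).1]
        simp [rotLin, hv, hw]
        have h3 : (3 : ZMod 3) = 0 := by decide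
        linear_combination (-(x (.inl 0)) + x (.inr 0)) * h3
      · rw [(extSq_coord _ _).2.1]
        simp [rotLin, hv, hw]
        have h3 : (3 : ZMod 3) = 0 := by decide
        linear_combination (-(x (.inl 0)) + x (.inr 0)) * h3
      · rw [(extSq_coord _ _).2.2, act_rot]
        funext i
        rcases i with i | i <;> simp [rotLin, sh, hv, hw, Fin.succ_ne_zero]
    rw [hsplit, map_mul, map_mul, mul_comm (ψ (reflect (sqQ (r + 1)) w)), hψ v w hQv hQw,
      show ψ (ext (rot r)) = (-1) ^ r from h1, pow_succ]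

end Cfsg.Agent.Fischer.Disc
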