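import Mathlib
import Cfsg.Agent.Lib.Forms.Reflections
import Cfsg.Agent.Lib.SylowAb.Forms

/-!
Isometries with square minus one over the field with three elements: frames.
-/

set_option autoImplicit false

namespace Cfsg.Agent.Fischer.Disc

open Matrix Module
open Cfsg.Agent.Forms.QuadStd Cfsg.Agent.Forms.Reflections

/-- the sum of squares on a plane tuple -/
noncomputable def sqQ (r : ℕ) : QuadraticForm (ZMod 3) (Fin r ⊕ Fin r → ZMod 3) :=
  SylowAb.dQ fun _ => 1

theorem sqQ_apply (r : ℕ) (x : Fin r ⊕ Fin r → ZMod 3) : sqQ r x = ∑ i, x i * x i := by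
  simp [sqQ, SylowAb.dQ_apply]

theorem sqQ_polar (r : ℕ) (x y : Fin r ⊕ Fin r → ZMod 3) :
    QuadraticMap.polar (sqQ r) x y = 2 * ∑ i, x i * y i := by
  simp [sqQ, SylowAb.dQ_polar]

theorem sqQ_nondeg (r : ℕ) : (QuadraticMap.polarBilin (sqQ r)).Nondegenerate :=
  SylowAb.dQ_nondeg (by decide) fun _ => one_ne_zero

/-- the quarter turn on each plane -/
def rotLin (r : ℕ) : (Fin r ⊕ Fin r → ZMod 3) ≃ₗ[ZMod 3] (Fin r ⊕ Fin r → ZMod 3) where
  toFun x := Sum.elim (fun i => -x (Sum.inr i)) (fun i => x (Sum.inl i))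
  invFun x := Sum.elim (fun i => x (Sum.inr i)) (fun i => -x (Sum.inl i))
  map_add' x y := by
    funext i; rcases i with i | i <;> simp [add_comm]
  map_smul' a x := by
    funext i; rcases i with i | i <;> simp
  left_inv x := by funext i; rcases i with i | i <;> simp
  right_inv x := by funext i; rcases i with i | i <;> simp

theorem rotLin_map (r : ℕ) (x : Fin r ⊕ Fin r → ZMod 3) : sqQ r (rotLin r x) = sqQ r x := by
  rw [sqQ_apply, sqQ_apply, Fintype.sum_sum_type, Fintype.sum_sum_type]
  show ∑ i, (-x (Sum.inr i)) * (-x (Sum.inr i)) + ∑ i, x (Sum.inl i) * x (Sum.inl i) = _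
  simp only [neg_mul_neg]
  exact add_comm _ _

/-- the quarter turn as an isometry -/
noncomputable def rot (r : ℕ) : Cfsg.isometryGroup (ZMod 3) ⇑(sqQ r) :=
  isoOfEquiv _ (rotLin r) (rotLin_map r)

theorem act_rot (r : ℕ) (x : Fin r ⊕ Fin r → ZMod 3) : act (rot r) x = rotLin r x := by
  rw [act_apply]; exact isoOfEquiv_mulVec _ _ _ x

theorem act_rot_rot (r : ℕ) (x : Fin r ⊕ Fin r → ZMod 3) :
    act (rot r) (act (rot r) x) = -x := by
  rw [act_rot, act_rot]
  funext i
  rcases i with i | i <;> simp [rotLin]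

variable {ι : Type} [Fintype ι] [DecidableEq ι] {Q : QuadraticForm (ZMod 3) (ι → ZMod 3)}

/-- orthogonal planes stable under `g`, each given by a vector of value `c` -/
structure Fam (g : Cfsg.isometryGroup (ZMod 3) ⇑Q) (c : ZMod 3) {k : ℕ}
    (w : Fin k → ι → ZMod 3) : Prop where
  val : ∀ i, Q (w i) = c
  perp : ∀ i j, i ≠ j → QuadraticMap.polar Q (w i) (w j) = 0
  perp' : ∀ i j, QuadraticMap.polar Q (w i) (act g (w j)) = 0

variable (hQ : (QuadraticMap.polarBilin Q).Nondegenerate)
variable {g : Cfsg.isometryGroup (ZMod 3) ⇑Q} (hg : ∀ x, act g (act g x) = -x)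
include hg

theorem polar_self_act (x : ι → ZMod 3) : QuadraticMap.polar Q x (act g x) = 0 := by
  have h := act_polar g x (act g x)
  rw [hg, QuadraticMap.polar_neg_right, QuadraticMap.polar_comm _ (act g x)] at h
  have : ∀ a : ZMod 3, -a = a → a = 0 := by decide
  exact this _ h

theorem polar_act_left (x y : ι → ZMod 3) :
    QuadraticMap.polar Q (act g x) y = -QuadraticMap.polar Q x (act g y) := by
  rw [← act_polar g (act g x) y, hg, QuadraticMap.polar_neg_left]

/-- the vectors of a family with their images -/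
noncomputable def famVec (g : Cfsg.isometryGroup (ZMod 3) ⇑Q) {k : ℕ} (w : Fin k → ι → ZMod 3) :
    Fin k ⊕ Fin k → ι → ZMod 3 :=
  Sum.elim w fun i => act g (w i)

variable {c : ZMod 3} {k : ℕ} {w : Fin k → ι → ZMod 3}

theorem famVec_polar (hw : Fam g c w) (a b : Fin k ⊕ Fin k) :
    QuadraticMap.polar Q (famVec g w a) (famVec g w b) = if a = b then 2 * c else 0 := by
  have hs : ∀ i, QuadraticMap.polar Q (w i) (w i) = 2 * c := fun i => by
    rw [QuadraticMap.polar_self, hw.val]; simp
  rcases a with i | i <;> rcases b with j | j <;> simp only [famVec, Sum.elim_inl, Sum.elim_inr]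
  · split_ifs with e
    · rw [Sum.inl.inj e, hs]
    · exact hw.perp i j fun e' => e (e' ▸ rfl)
  · rw [if_neg (by simp), hw.perp']
  · rw [if_neg (by simp), QuadraticMap.polar_comm, hw.perp']
  · rw [act_polar]
    split_ifs with e
    · rw [Sum.inr.inj e, hs]
    · exact hw.perp i j fun e' => e (e' ▸ rfl)

theorem famVec_lc_polar (hw : Fam g c w) (x : Fin k ⊕ Fin k → ZMod 3) (b : Fin k ⊕ Fin k) :
    QuadraticMap.polar Q (Fintype.linearCombination (ZMod 3) (famVec g w) x) (famVec g w b) =
      2 * c * x b := by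
  rw [← polB_apply, Fintype.linearCombination_apply, map_sum, LinearMap.sum_apply,
    Finset.sum_eq_single b]
  · rw [map_smul, LinearMap.smul_apply, polB_apply, famVec_polar hg hw, if_pos rfl, smul_eq_mul,
      mul_comm]
  · intro a _ hne
    rw [map_smul, LinearMap.smul_apply, polB_apply, famVec_polar hg hw, if_neg hne, smul_zero]
  · exact fun h => absurd (Finset.mem_univ b) h

theorem famVec_injective (hc : c ≠ 0) (hw : Fam g c w) :
    Function.Injective (Fintype.linearCombination (ZMod 3) (famVec g w)) := by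
  intro x y h
  funext b
  have e := congrArg (fun v => QuadraticMap.polar Q v (famVec g w b)) h
  simp only [famVec_lc_polar hg hw] at e
  exact mul_left_cancel₀ (mul_ne_zero (show (2 : ZMod 3) ≠ 0 by decide) hc) e

theorem famVec_two_mul_le (hc : c ≠ 0) (hw : Fam g c w) : 2 * k ≤ Fintype.card ι := by
  have := LinearMap.finrank_le_finrank_of_injective (famVec_injective hg hc hw)
  simpa [two_mul] using this

theorem act_lc (x : Fin k ⊕ Fin k → ZMod 3) :
    act g (Fintype.linearCombination (ZMod 3) (famVec g w) x) =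
      Fintype.linearCombination (ZMod 3) (famVec g w) (rotLin k x) := by
  simp only [Fintype.linearCombination_apply, Fintype.sum_sum_type, map_add, map_sum, map_smul]
  rw [add_comm]
  congr 1
  · refine Finset.sum_congr rfl fun i _ => ?_
    simp [famVec, rotLin, hg]

theorem map_lc_fam (hw : Fam g c w) (x : Fin k ⊕ Fin k → ZMod 3) :
    Q (Fintype.linearCombination (ZMod 3) (famVec g w) x) = c * sqQ k x := by
  set v := Fintype.linearCombination (ZMod 3) (famVec g w) x with hv
  have h1 : QuadraticMap.polar Q v v = 2 * c * sqQ k x := by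
    nth_rewrite 2 [hv]
    rw [Fintype.linearCombination_apply, ← polB_apply, map_sum, sqQ_apply, Finset.mul_sum]
    refine Finset.sum_congr rfl fun b _ => ?_
    rw [map_smul, polB_apply, hv, famVec_lc_polar hg hw, smul_eq_mul]
    ring
  rw [QuadraticMap.polar_self, two_nsmul] at h1
  have h2 : (2 : ZMod 3) * Q v = 2 * (c * sqQ k x) := by linear_combination h1
  exact mul_left_cancel₀ (show (2 : ZMod 3) ≠ 0 by decide) h2

include hQ

/-- A family that does not span is extended, keeping its members. -/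
theorem Fam.extend (hc : c ≠ 0) (hw : Fam g c w)
    (hns : ¬ Function.Surjective (Fintype.linearCombination (ZMod 3) (famVec g w))) :
    ∃ w' : Fin (k + 1) → ι → ZMod 3, Fam g c w' ∧ ∀ i, w' i.castSucc = w i := by
  classical
  let P : (ι → ZMod 3) → ι → ZMod 3 := fun y =>
    y - Fintype.linearCombination (ZMod 3) (famVec g w)
      (fun a => (2 * c)⁻¹ * QuadraticMap.polar Q y (famVec g w a))
  have h2c : (2 * c : ZMod 3) ≠ 0 := mul_ne_zero (by decide) hc
  have hP : ∀ y b, QuadraticMap.polar Q (P y) (famVec g w b) = 0 := fun y b => by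
    show QuadraticMap.polar Q (y - _) _ = 0
    rw [QuadraticMap.polar_sub_left, famVec_lc_polar hg hw, ← mul_assoc, mul_inv_cancel₀ h2c,
      one_mul, sub_self]
  simp only [Function.Surjective, not_forall, not_exists] at hns
  obtain ⟨y, hy⟩ := hns
  have hPy : P y ≠ 0 := fun e => hy _ (sub_eq_zero.1 e).symm
  obtain ⟨x, hx, hQx⟩ : ∃ x, (∀ b, QuadraticMap.polar Q x (famVec g w b) = 0) ∧ Q x ≠ 0 := by
    by_contra hall
    push Not at hall
    refine hPy (hQ.1 _ fun z => ?_)
    have h0 := hall _ (hP y)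
    have h1 := hall _ (hP z)
    have h2 := hall (P y + P z) fun b => by
      rw [QuadraticMap.polar_add_left, hP, hP, add_zero]
    show QuadraticMap.polar Q (P y) z = 0
    have hPP : QuadraticMap.polar Q (P y) (P z) = 0 := by
      rw [QuadraticMap.map_add Q, h0, h1, zero_add, zero_add] at h2
      exact h2
    rwa [show P z = z - _ from rfl, QuadraticMap.polar_sub_right,
      Fintype.linearCombination_apply, ← polB_apply, ← polB_apply, map_sum,
      Finset.sum_eq_zero fun a _ => by rw [map_smul, polB_apply, hP, smul_zero], sub_zero] at hPP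
  obtain ⟨v, hv, hQv⟩ : ∃ v, (∀ b, QuadraticMap.polar Q v (famVec g w b) = 0) ∧ Q v = c := by
    have hgx : ∀ b, QuadraticMap.polar Q (act g x) (famVec g w b) = 0 := fun b => by
      rw [polar_act_left hg, neg_eq_zero]
      rcases b with i | i
      · exact hx (Sum.inr i)
      · show QuadraticMap.polar Q x (act g (act g (w i))) = 0
        rw [hg, QuadraticMap.polar_neg_right, neg_eq_zero]
        exact hx (Sum.inl i)
    by_cases e : Q x = c
    · exact ⟨x, hx, e⟩
    · refine ⟨x + act g x, fun b => by rw [QuadraticMap.polar_add_left, hx, hgx, add_zero], ?_⟩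
      rw [QuadraticMap.map_add Q, act_map, polar_self_act hg, add_zero]
      have : ∀ a b : ZMod 3, a ≠ 0 → b ≠ 0 → a ≠ b → a + a = b := by decide
      exact this _ _ hQx hc e
  refine ⟨Fin.snoc w v, ⟨fun i => ?_, fun i j hij => ?_, fun i j => ?_⟩,
    fun i => Fin.snoc_castSucc _ _ _⟩
  · induction i using Fin.lastCases with
    | last => rw [Fin.snoc_last, hQv]
    | cast i => rw [Fin.snoc_castSucc, hw.val]
  · induction i using Fin.lastCases with
    | last =>
      induction j using Fin.lastCases with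
      | last => exact absurd rfl hij
      | cast j =>
        rw [Fin.snoc_last, Fin.snoc_castSucc]
        exact hv (Sum.inl j)
    | cast i =>
      induction j using Fin.lastCases with
      | last =>
        rw [Fin.snoc_last, Fin.snoc_castSucc, QuadraticMap.polar_comm]
        exact hv (Sum.inl i)
      | cast j =>
        rw [Fin.snoc_castSucc, Fin.snoc_castSucc]
        exact hw.perp i j fun e => hij (e ▸ rfl)
  · induction i using Fin.lastCases with
    | last =>
      induction j using Fin.lastCases with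
      | last => rw [Fin.snoc_last, polar_self_act hg]
      | cast j =>
        rw [Fin.snoc_last, Fin.snoc_castSucc]
        exact hv (Sum.inr j)
    | cast i =>
      induction j using Fin.lastCases with
      | last =>
        rw [Fin.snoc_last, Fin.snoc_castSucc, QuadraticMap.polar_comm, polar_act_left hg,
          neg_eq_zero]
        exact hv (Sum.inr i)
      | cast j =>
        rw [Fin.snoc_castSucc, Fin.snoc_castSucc]
        exact hw.perp' i j

/-- Every family extends to a frame: the dimension is even and `g` is the quarter turn. -/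
theorem Fam.frame (hc : c ≠ 0) (hw : Fam g c w) :
    ∃ (r : ℕ) (hkr : k ≤ r) (e : (Fin r ⊕ Fin r → ZMod 3) ≃ₗ[ZMod 3] (ι → ZMod 3)),
      Fintype.card ι = 2 * r ∧ (∀ x, Q (e x) = c * sqQ r x) ∧
      (∀ x, act g (e x) = e (rotLin r x)) ∧
      ∀ i : Fin k, e (Pi.single (Sum.inl (Fin.castLE hkr i)) 1) = w i := by
  induction hn : Fintype.card ι - 2 * k using Nat.strong_induction_on generalizing k with
  | _ m ih =>
    subst hn
    by_cases hs : Function.Surjective (Fintype.linearCombination (ZMod 3) (famVec g w))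
    · have hi := famVec_injective hg hc hw
      refine ⟨k, le_rfl, LinearEquiv.ofBijective _ ⟨hi, hs⟩, ?_, fun x => map_lc_fam hg hw x,
        fun x => act_lc hg x, fun i => ?_⟩
      · have := LinearEquiv.finrank_eq (LinearEquiv.ofBijective _ ⟨hi, hs⟩)
        simpa [two_mul] using this.symm
      · show Fintype.linearCombination (ZMod 3) (famVec g w) _ = _
        rw [Fintype.linearCombination_apply_single, one_smul]
        rfl
    · obtain ⟨w', hw', he⟩ := hw.extend hQ hg hc hs
      have hlt := famVec_two_mul_le hg hc hw'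
      obtain ⟨r, hkr, e, h1, h2, h3, h4⟩ := ih _ (by omega) hw' rfl
      refine ⟨r, by omega, e, h1, h2, h3, fun i => ?_⟩
      rw [← he, ← h4 i.castSucc]
      rfl

omit hQ hg in
theorem fam_empty (g : Cfsg.isometryGroup (ZMod 3) ⇑Q) (c : ZMod 3) :
    Fam g c (fun i : Fin 0 => i.elim0) :=
  ⟨fun i => i.elim0, fun i => i.elim0, fun i => i.elim0⟩

/-- A frame. -/
theorem exists_frame' (hc : c ≠ 0) :
    ∃ (r : ℕ) (e : (Fin r ⊕ Fin r → ZMod 3) ≃ₗ[ZMod 3] (ι → ZMod 3)),
      Fintype.card ι = 2 * r ∧ (∀ x, Q (e x) = c * sqQ r x) ∧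
      ∀ x, act g (e x) = e (rotLin r x) := by
  obtain ⟨r, -, e, h1, h2, h3, -⟩ := (fam_empty g c).frame hQ hg hc
  exact ⟨r, e, h1, h2, h3⟩

/-- A vector of value `c` starts a frame. -/
theorem frame_at (hc : c ≠ 0) {v : ι → ZMod 3} (hv : Q v = c) :
    ∃ (r : ℕ) (hr : 0 < r) (e : (Fin r ⊕ Fin r → ZMod 3) ≃ₗ[ZMod 3] (ι → ZMod 3)),
      Fintype.card ι = 2 * r ∧ (∀ x, Q (e x) = c * sqQ r x) ∧
      (∀ x, act g (e x) = e (rotLin r x)) ∧ e (Pi.single (Sum.inl ⟨0, hr⟩) 1) = v := by
  have hw : Fam g c (fun _ : Fin 1 => v) :=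
    ⟨fun _ => hv, fun i j h => absurd (Subsingleton.elim i j) h, fun _ _ => polar_self_act hg v⟩
  obtain ⟨r, hkr, e, h1, h2, h3, h4⟩ := hw.frame hQ hg hc
  exact ⟨r, hkr, e, h1, h2, h3, h4 0⟩

end Cfsg.Agent.Fischer.Disc
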