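import Cfsg.Agent.Lib.Fischer.Disc.Middle
import Cfsg.Agent.Lib.Classical.Symplectic
import Cfsg.Agent.GroupStructure3.ThreeTransUnitary

/-!
Symmetric, symplectic and unitary models: every involution commutes with a member of the class, so
such a group is not the group of a fibre of a disconnected class.
-/

set_option autoImplicit false

namespace Cfsg.Agent.Fischer.Disc

open Matrix

theorem not_forced_of_involutions {M : Type*} [Group M] {E : Set M}
    (h : ∀ z ∈ commutator M, z * z = 1 → z ≠ 1 → ∃ y ∈ E, Commute z y) : ¬ Forced E := by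
  rintro ⟨⟨z, hz, -⟩, -⟩
  obtain ⟨y, hy, hc⟩ := h z hz.mem hz.sq hz.ne
  exact hz.free y hy hc

theorem not_forced_sym (n : ℕ) :
    ¬ Forced {σ : Equiv.Perm (Fin n) | σ.IsSwap} := by
  refine not_forced_of_involutions fun z _ hz2 hz1 => ?_
  obtain ⟨x, hx⟩ : ∃ x, z x ≠ x := by
    by_contra! hall
    exact hz1 (Equiv.ext fun x => by simpa using hall x)
  refine ⟨Equiv.swap x (z x), ⟨x, z x, fun e => hx e.symm, rfl⟩, ?_⟩
  have hzz : z (z x) = x := by rw [← Equiv.Perm.mul_apply, hz2, Equiv.Perm.one_apply]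
  show z * Equiv.swap x (z x) = Equiv.swap x (z x) * z
  rw [Equiv.mul_swap_eq_swap_mul, hzz, Equiv.swap_comm]

theorem not_forced_symp (m : ℕ) :
    ¬ Forced {g : Matrix.symplecticGroup (Fin m) (ZMod 2) |
      ((g : Matrix (Fin m ⊕ Fin m) (Fin m ⊕ Fin m) (ZMod 2)) - 1).rank = 1} := by
  refine not_forced_of_involutions fun g _ hg2 hg1 => ?_
  obtain ⟨A, hA⟩ : ∃ A : Matrix (Fin m ⊕ Fin m) (Fin m ⊕ Fin m) (ZMod 2),
      A = ((g : Matrix.symplecticGroup (Fin m) (ZMod 2)) : Matrix _ _ (ZMod 2)) := ⟨_, rfl⟩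
  obtain ⟨x, hx⟩ : ∃ x, A *ᵥ x ≠ x := by
    by_contra! hall
    refine hg1 (Forms.SympStd.sp_ext fun x => ?_)
    rw [← hA, hall x]
    exact (one_mulVec x).symm
  set w := A *ᵥ x + x with hw
  have hgg : A *ᵥ (A *ᵥ x) = x := by
    rw [hA, ← Forms.SympStd.mul_mulVec_sp, hg2]; exact one_mulVec x
  have hgw : A *ᵥ w = w := by
    rw [hw, mulVec_add, hgg, add_comm]
  have hw0 : w ≠ 0 := fun e => hx (funext fun i => by
    have := congrFun e i
    rw [hw, Pi.add_apply, Pi.zero_apply, CharTwo.add_eq_zero] at this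
    exact this)
  clear_value w
  refine ⟨Forms.SympStd.tv w 1, ?_, ?_⟩
  · show ((Cfsg.sympTransvection m w (1 : ZMod 2)) - 1).rank = 1
    rw [Cfsg.sympTransvection, one_smul, add_sub_cancel_left]
    refine le_antisymm (Matrix.rank_vecMulVec_le _ _) (Nat.one_le_iff_ne_zero.2 fun h => ?_)
    rw [Matrix.rank, Submodule.finrank_eq_zero, LinearMap.range_eq_bot] at h
    obtain ⟨y, hy⟩ := Classical.Symplectic.exists_partner (F := ZMod 2) hw0
    have h1 : Matrix.vecMulVec w (Matrix.J (Fin m) (ZMod 2) *ᵥ w) *ᵥ y = 0 := by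
      rw [← Matrix.mulVecLin_apply, h, LinearMap.zero_apply]
    rw [Matrix.vecMulVec_mulVec, op_smul_eq_smul, smul_eq_zero] at h1
    have h2 : Cfsg.sympForm m (ZMod 2) w y = 1 := hy
    have h3 : Cfsg.sympForm m (ZMod 2) y w = 1 := by
      have h4 := Forms.SympStd.sympForm_self (F := ZMod 2) (w + y)
      rw [Classical.Symplectic.f_add_left, Classical.Symplectic.f_add_right,
        Classical.Symplectic.f_add_right, Forms.SympStd.sympForm_self,
        Forms.SympStd.sympForm_self, zero_add, add_zero, h2, CharTwo.add_eq_zero] at h4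
      exact h4.symm
    rw [Cfsg.sympForm, dotProduct_comm] at h3
    exact h1.elim (fun e => one_ne_zero (h3.symm.trans e)) hw0
  · have := Classical.Symplectic.tv_conj g w (1 : ZMod 2)
    exact mul_inv_eq_iff_eq_mul.1 (this.trans
      (congrArg (fun v => Forms.SympStd.tv v 1) (show _ *ᵥ w = w by subst hA; exact hgw)))

theorem not_forced_unitary {F : Type} [Field F] [Fintype F] (hF : Fintype.card F = 4) (n : ℕ) :
    ¬ Forced ((QuotientGroup.mk : ↥(Cfsg.SU n F 2) → Cfsg.PSU n F 2) ''
      {g : ↥(Cfsg.SU n F 2) |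
        (((g : Matrix.SpecialLinearGroup (Fin n) F) : Matrix (Fin n) (Fin n) F) - 1).rank = 1}) := by
  have hF2 : Fintype.card F = 2 ^ 2 := by rw [hF]; norm_num
  refine not_forced_of_involutions fun z _ hz2 hz1 => ?_
  obtain ⟨g, rfl⟩ := QuotientGroup.mk'_surjective (Subgroup.center (Cfsg.SU n F 2)) z
  have hn : 2 ≤ n := by
    by_contra hlt
    haveI : Subsingleton (Fin n) := Fin.subsingleton_iff_le_one.2 (by omega)
    have : Subsingleton (Matrix.SpecialLinearGroup (Fin n) F) := inferInstance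
    exact hz1 (by rw [Subsingleton.elim g 1, map_one])
  have hgc : g * g ∈ Subgroup.center (Cfsg.SU n F 2) :=
    (QuotientGroup.eq_one_iff _).1 (by simpa using hz2)
  obtain ⟨a, ha⟩ := (Classical.Unitary.mem_center_iff hF2 hn _).1 hgc
  set g' := g * (g * g) with hg'
  have ha0 : a ≠ 0 := by
    intro e
    have h1 : (Classical.Unitary.mat (g * g)).det = 1 := (g * g).1.2
    rw [ha, e, zero_smul, Matrix.det_eq_zero_of_row_eq_zero ⟨0, by omega⟩ fun j => rfl] at h1
    exact zero_ne_one h1
  have hg'2 : g' * g' = 1 := by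
    refine Classical.Unitary.SU_ext fun x => ?_
    rw [hg', show g * (g * g) * (g * (g * g)) = (g * g) * (g * g) * (g * g) by group,
      Classical.Unitary.mat_one, one_mulVec, Classical.Unitary.mul_mulVec,
      Classical.Unitary.mul_mulVec, ha, smul_mulVec, smul_mulVec, smul_mulVec, one_mulVec,
      one_mulVec, one_mulVec, smul_smul, smul_smul,
      show a * a * a = a ^ 3 by ring, GroupStructure3.ThreeTransUnitary.cube hF2 ha0, one_smul]
  have hmk : (QuotientGroup.mk' (Subgroup.center (Cfsg.SU n F 2))) g' =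
      QuotientGroup.mk' (Subgroup.center (Cfsg.SU n F 2)) g := by
    rw [hg', map_mul, (QuotientGroup.eq_one_iff _).2 hgc |> fun e => (e :
      (QuotientGroup.mk' (Subgroup.center (Cfsg.SU n F 2))) (g * g) = 1), mul_one]
  obtain ⟨x, hx⟩ : ∃ x, Classical.Unitary.mat g' *ᵥ x ≠ x := by
    by_contra! hall
    refine hz1 ?_
    rw [← hmk, show g' = 1 from Classical.Unitary.SU_ext fun x => by
      rw [hall x, Classical.Unitary.mat_one, one_mulVec], map_one]
  haveI : CharP F 2 := CharTwo.of_one_ne_zero_of_two_eq_zero one_ne_zero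
    (GroupStructure3.ThreeTransUnitary.two_zero hF2)
  set w := Classical.Unitary.mat g' *ᵥ x + x with hw
  have hgg : Classical.Unitary.mat g' *ᵥ (Classical.Unitary.mat g' *ᵥ x) = x := by
    rw [← Classical.Unitary.mul_mulVec, hg'2, Classical.Unitary.mat_one, one_mulVec]
  have hgw : Classical.Unitary.mat g' *ᵥ w = w := by
    rw [hw, mulVec_add, hgg, add_comm]
  have hw0 : w ≠ 0 := fun e => hx (funext fun i => by
    have := congrFun e i
    rw [hw, Pi.add_apply, Pi.zero_apply, CharTwo.add_eq_zero] at this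
    exact this)
  have hiso : Cfsg.hermForm n F 2 w w = 0 := by
    set y := Classical.Unitary.mat g' *ᵥ x with hy
    have h1 : Cfsg.hermForm n F 2 y y = Cfsg.hermForm n F 2 x x := Classical.Unitary.SU_H g' x x
    have h2 : Cfsg.hermForm n F 2 x y = Cfsg.hermForm n F 2 y x := by
      have := Classical.Unitary.SU_H g' x y
      rw [hy, hgg] at this
      exact this.symm
    rw [hw, Classical.Unitary.H_add_left, Classical.Unitary.H_add_right hF2,
      Classical.Unitary.H_add_right hF2, h1, h2]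
    linear_combination (Cfsg.hermForm n F 2 x x + Cfsg.hermForm n F 2 y x) *
      GroupStructure3.ThreeTransUnitary.two_zero hF2
  refine ⟨_, ⟨GroupStructure3.ThreeTransUnitary.tr hF2 hiso,
    (GroupStructure3.ThreeTransUnitary.rank_one_iff hF2 _).2 ⟨w, hiso, hw0, rfl⟩, rfl⟩, ?_⟩
  have := GroupStructure3.ThreeTransUnitary.tr_conj hF2 g' hiso hiso hgw
  rw [mul_inv_eq_iff_eq_mul] at this
  rw [← hmk]
  exact Commute.map this (QuotientGroup.mk' (Subgroup.center (Cfsg.SU n F 2)))

end Cfsg.Agent.Fischer.Disc
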