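import Mathlib
import Cfsg.Prelude.Def_SporadicB
import Cfsg.Prelude.Def_FischerSpaces
import Cfsg.Agent.Lib.ThreeTransp.Structure
import Cfsg.Agent.Lib.ThreeTransp.Primitive
import Cfsg.Agent.Lib.Components.Fitting
import Cfsg.Agent.S5346

/-!
3-transposition classes with disconnected commuting graph: the component, the fibres of the
class over it, and the groups these fibres generate.
-/

set_option autoImplicit false

namespace Cfsg.Agent.Fischer.Disc

open Cfsg.Agent.ThreeTransp
open Cfsg.Agent.Components.Fitting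

variable {G : Type*} [Group G] {D : Set G}

/-- A centreless class with disconnected commuting graph, together with its component. -/
structure Ctx (D : Set G) (L : Subgroup G) : Prop where
  grp : Cfsg.IsThreeTranspositionGroup D
  trans : ∀ a ∈ D, ∀ b ∈ D, ∃ g : G, g * a * g⁻¹ = b
  normal : L.Normal
  comp : Cfsg.IsComponent L
  simple : IsSimpleGroup L
  cfree : ∀ g : G, (∀ x ∈ L, Commute g x) → g = 1
  index : 2 < L.index
  wide : ∀ a ∈ D, ∃ b ∈ D, b ≠ a ∧ Commute a b

theorem exists_ctx [Finite G] (hD : Cfsg.IsThreeTranspositionClass D) (hZ : Subgroup.center G = ⊥)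
    (h2 : Cfsg.pCore 2 G = ⊥) (h3 : Cfsg.pCore 3 G = ⊥)
    (hdisc : ¬ (Cfsg.commutingGraph D).Connected) :
    ∃ L : Subgroup G, Ctx D L ∧ Cfsg.generalizedFittingSubgroup G = L := by
  obtain ⟨hG, htrans⟩ := Classes.of_class hD
  obtain ⟨d, hd, -⟩ := hD.2.1
  have hD2 : ∃ a ∈ D, ∃ b ∈ D, a ≠ b := by
    by_contra! hone
    refine hdisc ?_
    haveI : Nonempty D := ⟨⟨d, hd⟩⟩
    exact ⟨fun a b => (Subtype.ext (hone a a.2 b b.2) : a = b) ▸ SimpleGraph.Reachable.refl a⟩
  have z2 : Cfsg.pCore 2 G ≤ Subgroup.center G := by rw [h2]; exact bot_le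
  have z3 : Cfsg.pCore 3 G ≤ Subgroup.center G := by rw [h3]; exact bot_le
  obtain ⟨L, hLn, hL, hF⟩ := Structure.exists_component hG htrans hD2 z2 z3
  haveI := hLn
  rw [hZ, sup_bot_eq] at hF
  -- two members commute
  have hwide : ∃ a ∈ D, ∃ b ∈ D, a ≠ b ∧ Commute a b := by
    by_contra hw
    push_neg at hw
    have h1 : Cfsg.commutingWidth D = 1 := by
      show sSup _ = 1
      refine le_antisymm (csSup_le ⟨1, {d}, by simpa using hd, Set.finite_singleton d, by simp,
        Set.ncard_singleton d⟩ ?_) (le_csSup ⟨Nat.card G, ?_⟩ ⟨{d}, by simpa using hd,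
        Set.finite_singleton d, by simp, Set.ncard_singleton d⟩)
      · rintro n ⟨E, hE, hfin, hc, rfl⟩
        exact (Set.ncard_le_one hfin).2 fun a ha b hb =>
          by_contra fun hne => hw a (hE ha) b (hE hb) hne (hc a ha b hb)
      · rintro n ⟨E, -, -, -, rfl⟩
        exact Set.ncard_le_card E
    have htop := (S5346.result hG hd).1 h1
    rw [h3, sup_bot_eq] at htop
    have : d ∈ Subgroup.center G := by
      rw [Subgroup.mem_center_iff]
      intro g
      obtain ⟨k, rfl⟩ := Subgroup.mem_zpowers_iff.1 (htop ▸ Subgroup.mem_top g)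
      exact ((Commute.refl d).zpow_left k).eq
    rw [hZ, Subgroup.mem_bot] at this
    exact Basic.ne_one hG.1 hd this
  have hidx : 2 < L.index := by
    by_contra hi
    have hprim := Primitive.primitive_of_index hG htrans hD2 z2 z3 hL.2 (by rw [hF, hZ, sup_bot_eq])
      (by omega)
    exact hdisc (Primitive.connected hG hprim hwide)
  have hcf : ∀ g : G, (∀ x ∈ L, Commute g x) → g = 1 := by
    intro g hg
    have h1 : g ∈ Subgroup.centralizer (Cfsg.generalizedFittingSubgroup G : Set G) := by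
      rw [hF]; exact Subgroup.mem_centralizer_iff.2 fun x hx => (hg x hx).eq.symm
    have h4 : g ∈ L := hF ▸ centralizer_genFitting_le h1
    have h5 : (Subgroup.center L).map L.subtype = ⊥ := by
      haveI : ((Subgroup.center L).map L.subtype).Normal :=
        Cores.normal_map_subtype L (Subgroup.center L)
      have h6 : (Subgroup.center L).map L.subtype ≤ Cfsg.fittingSubgroup G :=
        le_fitting (isNilpotent_of_isMulCommutative _)
      have h7 := h6.trans (Structure.fitting_le_center hG z2 z3)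
      rwa [hZ, le_bot_iff] at h7
    have h8 : g ∈ (Subgroup.center L).map L.subtype :=
      ⟨⟨g, h4⟩, Subgroup.mem_center_iff.2 fun x => Subtype.ext (hg x x.2).eq.symm, rfl⟩
    rw [h5, Subgroup.mem_bot] at h8
    exact h8
  have hsimple : IsSimpleGroup L := by
    have hcen : Subgroup.center L = ⊥ := by
      rw [eq_bot_iff]
      intro x hx
      have := hcf (x : G) fun y hy =>
        (congrArg Subtype.val (Subgroup.mem_center_iff.1 hx ⟨y, hy⟩)).symm
      exact Subgroup.mem_bot.2 (Subtype.ext this)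
    haveI := hL.2.2
    exact ((QuotientGroup.quotientMulEquivOfEq hcen).trans QuotientGroup.quotientBot).isSimpleGroup_congr.1
      inferInstance
  refine ⟨L, ⟨hG, htrans, hLn, hL, hsimple, hcf, hidx, fun a ha => ?_⟩, hF⟩
  obtain ⟨p, hp, q, hq, hpq, hc⟩ := hwide
  obtain ⟨g, rfl⟩ := htrans p hp a ha
  exact ⟨g * q * g⁻¹, hG.2.1 g q hq, fun h => hpq (mul_left_cancel (mul_right_cancel h)).symm,
    Basic.commute_conj.2 hc⟩

/-- The members congruent to `d` modulo the component. -/
def fib (D : Set G) (L : Subgroup G) (d : G) : Set G := {x | x ∈ D ∧ d⁻¹ * x ∈ L}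

/-- The group over the component belonging to the fibre of `d`. -/
def kg (L : Subgroup G) (d : G) : Subgroup G := L ⊔ Subgroup.zpowers d

namespace Ctx

variable {L : Subgroup G} (h : Ctx D L) {d e x g : G}
include h

theorem mul_self (hd : d ∈ D) : d * d = 1 := Classes.sq h.grp hd

theorem inv (hd : d ∈ D) : d⁻¹ = d := Classes.inv h.grp hd

theorem conj_L (g : G) (hx : x ∈ L) : g * x * g⁻¹ ∈ L := h.normal.conj_mem x hx g

theorem not_mem (hd : d ∈ D) : d ∉ L := by
  intro hdL
  haveI := h.normal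
  have hi := h.index
  have : L = ⊤ := by
    rw [eq_top_iff, ← h.grp.2.2, Subgroup.closure_le]
    intro y hy
    obtain ⟨k, rfl⟩ := h.trans d hd y hy
    exact h.conj_L k hdL
  rw [this, Subgroup.index_top] at hi
  omega

theorem mem_fib (hd : d ∈ D) : d ∈ fib D L d :=
  ⟨hd, by rw [inv_mul_cancel]; exact L.one_mem⟩

theorem fib_symm (hd : d ∈ D) (hx : x ∈ fib D L d) : d ∈ fib D L x :=
  ⟨hd, by simpa using L.inv_mem hx.2⟩

theorem fib_trans (hx : x ∈ fib D L d) (he : e ∈ fib D L x) : e ∈ fib D L d :=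
  ⟨he.1, by simpa [mul_assoc] using L.mul_mem hx.2 he.2⟩

theorem commute_mem_fib [Finite G] (hd : d ∈ D) (hx : x ∈ D) (hc : Commute d x) :
    x ∈ fib D L d :=
  ⟨hx, Structure.mul_mem_component h.grp h.trans h.comp hd hx
    (by rw [hc.eq, mul_inv_cancel_right, mul_inv_cancel]; exact L.one_mem)⟩

theorem not_commute_of_not_mem_fib [Finite G] (hd : d ∈ D) (hx : x ∈ D) (hn : x ∉ fib D L d) :
    ¬ Commute d x :=
  fun hc => hn (h.commute_mem_fib hd hx hc)

theorem conj_fib (g : G) (hx : x ∈ fib D L d) : g * x * g⁻¹ ∈ fib D L (g * d * g⁻¹) := by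
  refine ⟨h.grp.2.1 g x hx.1, ?_⟩
  rw [show (g * d * g⁻¹)⁻¹ * (g * x * g⁻¹) = g * (d⁻¹ * x) * g⁻¹ by group]
  exact h.conj_L g hx.2

omit h in
theorem mem_kg_self : d ∈ kg L d := Subgroup.mem_sup_right (Subgroup.mem_zpowers d)

omit h in
theorem le_kg : L ≤ kg L d := le_sup_left

theorem mem_kg_iff (hd : d ∈ D) : g ∈ kg L d ↔ g ∈ L ∨ d⁻¹ * g ∈ L := by
  constructor
  · intro hg
    haveI := h.normal
    rw [kg, ← SetLike.mem_coe, Subgroup.normal_mul] at hg
    obtain ⟨l, hl, p, hp, rfl⟩ := hg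
    obtain ⟨k, rfl⟩ := hp
    have hsq : d ^ (2 : ℤ) = 1 := by rw [zpow_two]; exact h.mul_self hd
    rcases Int.even_or_odd' k with ⟨m, rfl | rfl⟩
    · left; simpa [zpow_mul, hsq] using hl
    · right
      have := h.conj_L d⁻¹ hl
      simpa [zpow_add, zpow_mul, hsq, mul_assoc] using this
  · rintro (hg | hg)
    · exact le_kg hg
    · have := (kg L d).mul_mem (mem_kg_self (L := L)) (le_kg (d := d) hg)
      simpa using this

theorem mem_kg_of_fib (hd : d ∈ D) (hx : x ∈ fib D L d) : x ∈ kg L d :=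
  (h.mem_kg_iff hd).2 (Or.inr hx.2)

theorem mem_fib_of_kg (hd : d ∈ D) (hx : x ∈ D) (hk : x ∈ kg L d) : x ∈ fib D L d :=
  ⟨hx, ((h.mem_kg_iff hd).1 hk).resolve_left (h.not_mem hx)⟩

theorem kg_conj_fib (hd : d ∈ D) (hg : g ∈ kg L d) (hx : x ∈ fib D L d) :
    g * x * g⁻¹ ∈ fib D L d :=
  h.mem_fib_of_kg hd (h.grp.2.1 g x hx.1)
    ((kg L d).mul_mem ((kg L d).mul_mem hg (h.mem_kg_of_fib hd hx)) ((kg L d).inv_mem hg))

theorem kg_conj_eq (hd : d ∈ D) (hg : g ∈ kg L d) : ∃ l ∈ L, l * d * l⁻¹ = g * d * g⁻¹ := by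
  rcases (h.mem_kg_iff hd).1 hg with hl | hl
  · exact ⟨g, hl, rfl⟩
  · refine ⟨g * d⁻¹, ?_, by group⟩
    have := h.conj_L d hl
    rwa [show d * (d⁻¹ * g) * d⁻¹ = g * d⁻¹ by group] at this

/-- The component is minimal among normalized subgroups. -/
theorem inf_eq_or_le {P : Subgroup G} (hP : ∀ l ∈ L, ∀ p ∈ P, l * p * l⁻¹ ∈ P) :
    P ⊓ L = ⊥ ∨ L ≤ P := by
  haveI := h.simple
  haveI : (P.subgroupOf L).Normal :=
    ⟨fun p hp l => Subgroup.mem_subgroupOf.2 (hP l l.2 p (Subgroup.mem_subgroupOf.1 hp))⟩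
  rcases Subgroup.Normal.eq_bot_or_eq_top (inferInstance : (P.subgroupOf L).Normal) with hb | ht
  · left
    exact disjoint_iff.1 (Subgroup.subgroupOf_eq_bot.1 hb)
  · exact Or.inr (Subgroup.subgroupOf_eq_top.1 ht)

theorem closure_fib (hd : d ∈ D) [Finite G] : Subgroup.closure (fib D L d) = kg L d := by
  set P := Subgroup.closure (fib D L d) with hP
  refine le_antisymm ((Subgroup.closure_le _).2 fun x hx => h.mem_kg_of_fib hd hx)
    (sup_le ?_ ((Subgroup.zpowers_le).2 (Subgroup.subset_closure (h.mem_fib hd))))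
  have hn : ∀ l ∈ L, ∀ p ∈ P, l * p * l⁻¹ ∈ P := by
    intro l hl p hp
    have : P.map (MulAut.conj l).toMonoidHom ≤ P := by
      rw [hP, MonoidHom.map_closure, Subgroup.closure_le]
      rintro _ ⟨x, hx, rfl⟩
      exact Subgroup.subset_closure (by simpa using h.kg_conj_fib hd (le_kg hl) hx)
    exact this ⟨p, hp, by simp⟩
  refine (h.inf_eq_or_le hn).resolve_left fun hbot => ?_
  obtain ⟨c, hc, hcd, hdc⟩ := h.wide d hd
  have hmem := h.commute_mem_fib hd hc hdc
  have : d⁻¹ * c ∈ P ⊓ L :=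
    ⟨P.mul_mem (P.inv_mem (Subgroup.subset_closure (h.mem_fib hd))) (Subgroup.subset_closure hmem),
      hmem.2⟩
  rw [hbot, Subgroup.mem_bot, inv_mul_eq_one] at this
  exact hcd this.symm

/-- The fibre is one orbit of the component. -/
theorem exists_conj_fib [Finite G] (hd : d ∈ D) (hx : x ∈ fib D L d) :
    ∃ l ∈ L, l * d * l⁻¹ = x := by
  by_contra hne
  push_neg at hne
  set A : Set G := {a | ∃ l ∈ L, l * d * l⁻¹ = a} with hA
  have hAK : ∀ a ∈ A, ∀ k ∈ kg L d, k * a * k⁻¹ ∈ A := by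
    rintro _ ⟨l, hl, rfl⟩ k hk
    obtain ⟨l', hl', he⟩ := h.kg_conj_eq hd ((kg L d).mul_mem hk (le_kg hl))
    exact ⟨l', hl', by rw [he]; group⟩
  have hAf : ∀ a ∈ A, a ∈ fib D L d := by
    rintro _ ⟨l, hl, rfl⟩
    exact h.kg_conj_fib hd (le_kg hl) (h.mem_fib hd)
  have hcomm : ∀ a ∈ A, Commute a x := by
    intro a ha
    by_contra hn
    have hb := Basic.braid h.grp.1 (hAf a ha).1 hx.1 hn
    have hxA : x ∈ A := by
      have := hAK a ha (a * x)
        ((kg L d).mul_mem (h.mem_kg_of_fib hd (hAf a ha)) (h.mem_kg_of_fib hd hx))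
      rwa [show a * x * a * (a * x)⁻¹ = x by rw [hb]; group] at this
    obtain ⟨l, hl, he⟩ := hxA
    exact hne l hl he
  set P := Subgroup.closure A with hP
  have hn : ∀ l ∈ L, ∀ p ∈ P, l * p * l⁻¹ ∈ P := by
    intro l hl p hp
    have : P.map (MulAut.conj l).toMonoidHom ≤ P := by
      rw [hP, MonoidHom.map_closure, Subgroup.closure_le]
      rintro _ ⟨a, ha, rfl⟩
      exact Subgroup.subset_closure (by simpa using hAK a ha l (le_kg hl))
    exact this ⟨p, hp, by simp⟩
  rcases h.inf_eq_or_le hn with hbot | hle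
  · refine Basic.ne_one h.grp.1 hd (h.cfree d fun l hl => ?_)
    have hmem : l * d * l⁻¹ * d⁻¹ ∈ P ⊓ L := by
      refine ⟨P.mul_mem (Subgroup.subset_closure ⟨l, hl, rfl⟩)
        (P.inv_mem (Subgroup.subset_closure ⟨1, L.one_mem, by simp⟩)), ?_⟩
      rw [show l * d * l⁻¹ * d⁻¹ = l * (d * l⁻¹ * d⁻¹) by group]
      exact L.mul_mem hl (h.conj_L d (L.inv_mem hl))
    rw [hbot, Subgroup.mem_bot, mul_inv_eq_one, mul_inv_eq_iff_eq_mul] at hmem
    exact hmem.symm
  · refine Basic.ne_one h.grp.1 hx.1 (h.cfree x fun l hl => ?_)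
    have hPc : P ≤ Subgroup.centralizer {x} := by
      rw [hP, Subgroup.closure_le]
      intro a ha
      exact Subgroup.mem_centralizer_singleton_iff.2 (hcomm a ha).eq
    exact (Subgroup.mem_centralizer_singleton_iff.1 (hPc (hle hl))).symm

/-! ### The group of a fibre -/

omit h in
/-- The fibre inside its group. -/
def eset (D : Set G) (L : Subgroup G) (d : G) : Set (kg L d) := {k | (k : G) ∈ D}

theorem eset_iff (hd : d ∈ D) {k : kg L d} : k ∈ eset D L d ↔ (k : G) ∈ fib D L d :=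
  ⟨fun hk => h.mem_fib_of_kg hd hk k.2, fun hk => hk.1⟩

theorem eset_class [Finite G] (hd : d ∈ D) : Cfsg.IsThreeTranspositionClass (eset D L d) := by
  refine ⟨⟨fun k hk => ?_, fun k hk k' hk' => ?_⟩, ⟨⟨d, mem_kg_self⟩, hd, ?_⟩, ?_⟩
  · rw [← Subgroup.orderOf_coe]; exact h.grp.1.1 _ hk
  · rcases h.grp.1.2 _ hk _ hk' with h' | h'
    · exact Or.inl (Subtype.ext (by simpa using h'))
    · exact Or.inr (Subtype.ext (by simpa using h'))
  · ext k
    rw [conjugatesOf, Set.mem_setOf_eq, isConj_iff]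
    constructor
    · intro hk
      obtain ⟨l, hl, he⟩ := h.exists_conj_fib hd ((h.eset_iff hd).1 hk)
      exact ⟨⟨l, le_kg hl⟩, Subtype.ext he⟩
    · rintro ⟨c, rfl⟩
      exact h.grp.2.1 _ _ hd
  · have himg : Subtype.val '' eset D L d = fib D L d := by
      ext y
      constructor
      · rintro ⟨k, hk, rfl⟩; exact (h.eset_iff hd).1 hk
      · intro hy; exact ⟨⟨y, h.mem_kg_of_fib hd hy⟩, hy.1, rfl⟩
    apply Subgroup.map_injective (kg L d).subtype_injective
    rw [MonoidHom.map_closure, Subgroup.coe_subtype, himg, h.closure_fib hd, ← MonoidHom.range_eq_map,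
      Subgroup.range_subtype]

theorem kg_center (hd : d ∈ D) : Subgroup.center (kg L d) = ⊥ := by
  rw [eq_bot_iff]
  intro z hz
  refine Subgroup.mem_bot.2 (Subtype.ext (h.cfree z fun x hx => ?_))
  exact (congrArg Subtype.val (Subgroup.mem_center_iff.1 hz ⟨x, le_kg hx⟩)).symm

theorem kg_commutator [Finite G] (hd : d ∈ D) :
    commutator (kg L d) = L.subgroupOf (kg L d) := by
  apply Subgroup.map_injective (kg L d).subtype_injective
  rw [Subgroup.map_subtype_commutator, Subgroup.map_subgroupOf_eq_of_le le_kg]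
  haveI := h.normal
  refine le_antisymm (Subgroup.commutator_le.2 fun a ha b hb => ?_) ?_
  · rw [← QuotientGroup.eq_one_iff]
    have key : ∀ p q r : G ⧸ L, p = 1 ∨ p = r → q = 1 ∨ q = r → p * q * p⁻¹ * q⁻¹ = 1 := by
      rintro p q r (rfl | rfl) (rfl | rfl) <;> group
    have hq : ∀ k ∈ kg L d, (k : G ⧸ L) = 1 ∨ (k : G ⧸ L) = d := fun k hk =>
      ((h.mem_kg_iff hd).1 hk).imp (QuotientGroup.eq_one_iff _).2
        fun hk' => (QuotientGroup.eq.2 hk').symm
    rw [commutatorElement_def, QuotientGroup.mk_mul, QuotientGroup.mk_mul, QuotientGroup.mk_mul,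
      QuotientGroup.mk_inv, QuotientGroup.mk_inv]
    exact key _ _ _ (hq a ha) (hq b hb)
  · calc L = ⁅L, L⁆ := (Components.Basic.component_commutator_self h.comp).symm
      _ ≤ _ := Subgroup.commutator_mono le_kg le_kg

/-- The derived subgroup of the fibre group is the component. -/
noncomputable def commutatorEquiv [Finite G] (hd : d ∈ D) : commutator (kg L d) ≃* L :=
  (MulEquiv.subgroupCongr (h.kg_commutator hd)).trans (Subgroup.subgroupOfEquivOfLe le_kg)

theorem commutatorEquiv_coe [Finite G] (hd : d ∈ D) (k : commutator (kg L d)) :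
    ((h.commutatorEquiv hd k : L) : G) = ((k : kg L d) : G) := rfl

theorem kg_simple [Finite G] (hd : d ∈ D) : IsSimpleGroup (commutator (kg L d)) :=
  (h.commutatorEquiv hd).isSimpleGroup_congr.2 h.simple

end Ctx

end Cfsg.Agent.Fischer.Disc
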